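import Cfsg.Agent.H670.Rd.Num

/-!
# S3691, residual case F-D+2 (helper499): (N2)

`cubeB` : the simple group `S` has order `< p ^ (3 v)`, `p ^ v = |S|_p`, when the `p`-part of the solvable part is `q ^ m`.
-/

set_option autoImplicit false

namespace Cfsg.Agent.H499.Rd

open Cfsg.Agent.H117.Rd Cfsg.Agent.H670.Rd

theorem three_fact_le {p n : ℕ} (hp : 3 ≤ p) (hn : n ≠ 0) : 3 * n.factorization p ≤ n := by
  have h1 : p ^ n.factorization p ≤ n := Nat.ordProj_le p hn
  have h2 : 3 ^ n.factorization p ≤ p ^ n.factorization p := Nat.pow_le_pow_left hp _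
  have h3 : ∀ k : ℕ, 3 * k ≤ 3 ^ k := by
    intro k
    induction k with
    | zero => simp
    | succ k ih =>
      rcases Nat.eq_zero_or_pos k with h | h
      · subst h; simp
      · rw [pow_succ]; omega
  exact (h3 _).trans (h2.trans h1)

/-- `v_2(n) + 3 ≤ n` for `n ≥ 5`; small values -/
theorem two_fact_le {n : ℕ} (hn : 5 ≤ n) : n.factorization 2 + 3 ≤ n := by
  have h1 : 2 ^ n.factorization 2 ≤ n := Nat.ordProj_le 2 (by omega)
  have h3 : ∀ k : ℕ, k + 3 ≤ 2 ^ (k + 2) := by
    intro k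
    induction k with
    | zero => simp
    | succ k ih => rw [show k + 1 + 2 = (k + 2) + 1 by ring, pow_succ]; omega
  by_contra hcon
  obtain ⟨k, rfl⟩ : ∃ k, n = k + 5 := ⟨n - 5, by omega⟩
  have h4 : k + 3 ≤ (k + 5).factorization 2 := by omega
  have h5 : 2 ^ (k + 3) ≤ 2 ^ (k + 5).factorization 2 := Nat.pow_le_pow_right (by norm_num) h4
  have h6 := h3 (k + 1)
  rw [show k + 1 + 2 = k + 3 by ring] at h6
  have h7 := h5.trans h1
  have h8 : ∀ k : ℕ, k + 5 < 2 ^ (k + 3) := by
    intro k
    induction k with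
    | zero => norm_num
    | succ k ih => rw [show k + 1 + 3 = (k + 3) + 1 by ring, pow_succ]; omega
  have := h8 k
  omega

theorem fact_odd_two {m : ℕ} (hm : Odd m) : (2 * m).factorization 2 = 1 := by
  have hm0 : m ≠ 0 := by
    rintro rfl
    exact absurd hm (by decide)
  rw [Nat.factorization_mul two_ne_zero hm0, Finsupp.add_apply, Nat.Prime.factorization_self Nat.prime_two,
    Nat.factorization_eq_zero_of_not_dvd]
  rw [← even_iff_two_dvd, Nat.not_even_iff_odd]
  exact hm

theorem fact_odd {m p : ℕ} (hp : p.Prime) (hp2 : p ≠ 2) (hm : m ≠ 0) : (2 * m).factorization p = m.factorization p := by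
  rw [Nat.factorization_mul two_ne_zero hm, Finsupp.add_apply, Nat.factorization_eq_zero_of_not_dvd, zero_add]
  intro h
  exact hp2 ((Nat.prime_dvd_prime_iff_eq hp Nat.prime_two).1 h)

/-- the inequality, `q = p ^ f`, except for `(p, f, m) = (2, 4, 5)` -/
theorem num_B {p f m a : ℕ} (hfr : Fr p f m) (hodd : Odd m) (ha : a ≤ (2 * m).factorization p) :
    (p = 2 ∧ f = 4 ∧ m = 5) ∨ 2 * (l1 p f + a) ≤ f * (m - 3) := by
  have hm := hfr.five
  have hf := hfr.f1
  by_cases hp2 : p = 2
  · subst hp2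
    rw [fact_odd_two hodd] at ha
    rw [l1, if_pos rfl]
    have h1 := hfr.two rfl
    have h2 := hfr.four rfl
    obtain ⟨j, hj⟩ := hodd
    rcases Nat.lt_or_ge f 5 with h5 | h5
    · interval_cases f
      · right
        have := h1 rfl
        rw [Nat.factorization_one]
        simp only [Finsupp.coe_zero, Pi.zero_apply]
        omega
      · right
        have := h2 rfl
        rw [Nat.Prime.factorization_self Nat.prime_two]
        omega
      · right
        rw [Nat.factorization_eq_zero_of_not_dvd (by norm_num : ¬ 2 ∣ 3)]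
        omega
      · have h4 : (4 : ℕ).factorization 2 = 2 := by
          rw [show (4 : ℕ) = 2 ^ 2 by norm_num, Nat.Prime.factorization_pow Nat.prime_two, Finsupp.single_eq_same]
        rw [h4]
        omega
    · right
      have h6 := two_fact_le h5
      have h7 : f * 2 ≤ f * (m - 3) := Nat.mul_le_mul_left _ (by omega)
      omega
  · right
    rw [fact_odd hfr.prime hp2 (by omega)] at ha
    rw [l1, if_neg hp2]
    have hp3 : 3 ≤ p := by
      have := hfr.prime.two_le
      omega
    have h1 := three_fact_le hp3 (show f ≠ 0 by omega)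
    have h2 := three_fact_le hp3 (show m ≠ 0 by omega)
    have h3 : m.factorization p ≤ (m - 3) / 2 := by
      rcases Nat.lt_or_ge m 9 with h9 | h9
      · obtain ⟨j, hj⟩ := hodd
        omega
      · omega
    obtain ⟨k, rfl⟩ : ∃ k, m = k + 5 := ⟨m - 5, by omega⟩
    rw [show k + 5 - 3 = k + 2 by omega] at h3 ⊢
    have h4 : 2 * a ≤ k + 2 := by omega
    have h5 : f.factorization p ≤ f - 1 := by
      have := Nat.factorization_lt p (show f ≠ 0 by omega)
      omega
    have h6 : k ≤ f * k := Nat.le_mul_of_pos_left k hf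
    have h7 : f * (k + 2) = f * k + 2 * f := by ring
    omega

theorem r_eq {r : ℕ} (hr : r.Prime) (hro : orderOf ((2 : ℕ) : ZMod r) = 4 * 5) : r = 41 := by
  have h10 : (2 ^ (4 * 5) - 1 : ℕ) = 3 * 5 ^ 2 * 11 * 31 * 41 := by norm_num
  have h11 : r ∣ 3 * 5 ^ 2 * 11 * 31 * 41 := by
    rw [← h10]; exact dvd_of_order (by norm_num) hro
  have h12 : 20 < r := lt_of_order hr hro (by norm_num)
  have h13 : 20 ∣ r - 1 := dvd_sub_one hr hro (by norm_num)
  rcases (Nat.Prime.dvd_mul hr).1 h11 with h14 | h14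
  · exfalso
    rcases (Nat.Prime.dvd_mul hr).1 h14 with h15 | h15
    · rcases (Nat.Prime.dvd_mul hr).1 h15 with h16 | h16
      · rcases (Nat.Prime.dvd_mul hr).1 h16 with h17 | h17
        · have := Nat.le_of_dvd (by norm_num) h17
          omega
        · have := Nat.le_of_dvd (by norm_num) (hr.dvd_of_dvd_pow h17)
          omega
      · have := Nat.le_of_dvd (by norm_num) h16
        omega
    · have := (Nat.prime_dvd_prime_iff_eq hr (by norm_num)).1 h15
      omega
  · exact (Nat.prime_dvd_prime_iff_eq hr (by norm_num)).1 h14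

theorem s_eq {s : ℕ} (hs : s.Prime) (hso : orderOf ((2 : ℕ) : ZMod s) = 4 * (5 - 1)) : s = 257 := by
  have h10 : (2 ^ (4 * (5 - 1)) - 1 : ℕ) = 3 * 5 * 17 * 257 := by norm_num
  have h11 : s ∣ 3 * 5 * 17 * 257 := by
    rw [← h10]; exact dvd_of_order (by norm_num) hso
  have h12 : 16 < s := lt_of_order hs hso (by norm_num)
  have h18 : s ≠ 17 := by
    rintro rfl
    have h19 : (4 * (5 - 1) : ℕ) ∣ 8 := order_dvd (p := 2) (by norm_num) hso (by norm_num)
    revert h19
    decide
  rcases (Nat.Prime.dvd_mul hs).1 h11 with h14 | h14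
  · exfalso
    rcases (Nat.Prime.dvd_mul hs).1 h14 with h15 | h15
    · rcases (Nat.Prime.dvd_mul hs).1 h15 with h16 | h16
      · have := Nat.le_of_dvd (by norm_num) h16
        omega
      · have := Nat.le_of_dvd (by norm_num) h16
        omega
    · exact h18 ((Nat.prime_dvd_prime_iff_eq hs (by norm_num)).1 h15)
  · exact (Nat.prime_dvd_prime_iff_eq hs (by norm_num)).1 h14

theorem mod_257 {t n : ℕ} (ht : t = 3 ∨ t = 5) (hn : n ∣ 5248 * t) (hn1 : n % 257 = 1) : n = 1 := by
  have h1 : n ≤ 5248 * t := Nat.le_of_dvd (by omega) hn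
  obtain ⟨k, rfl⟩ : ∃ k, n = 257 * k + 1 := ⟨n / 257, by omega⟩
  have key : ∀ k < 103, (257 * k + 1 ∣ 5248 * 3 ∨ 257 * k + 1 ∣ 5248 * 5) → k = 0 := by decide +kernel
  have h2 : k = 0 := by
    refine key k (by omega) ?_
    rcases ht with rfl | rfl
    · exact Or.inl hn
    · exact Or.inr hn
  subst h2
  rfl

theorem dvd_num {c : ℕ} (h1 : 2 ^ 7 ∣ c) (h3 : 41 ∣ c) (h4 : 257 ∣ c) : 1348736 ∣ c := by
  have h5 : 41 * 257 ∣ c := Nat.Coprime.mul_dvd_of_dvd_of_dvd (by norm_num) h3 h4
  have h6 : 2 ^ 7 * (41 * 257) ∣ c := Nat.Coprime.mul_dvd_of_dvd_of_dvd (by norm_num) h1 h5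
  norm_num at h6
  exact h6

theorem dvd_num' {t : ℕ} (h : 2 ∣ t) : 2 ^ 8 ∣ 1348736 * t := by
  obtain ⟨j, rfl⟩ := h
  norm_num
  omega

theorem fac_257 {t : ℕ} (ht : t = 3 ∨ t = 5) : (1348736 * t).factorization 257 = 1 := by
  have h21 : (1348736 * t : ℕ) = 257 * (5248 * t) := by ring
  have h23 : ¬ 257 ∣ 5248 * t := by rcases ht with rfl | rfl <;> norm_num
  have h22 : (5248 * t).factorization 257 = 0 := Nat.factorization_eq_zero_of_not_dvd h23
  rw [h21, Nat.factorization_mul (by norm_num) (by omega), Finsupp.add_apply,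
    Nat.Prime.factorization_self (by norm_num), h22]

theorem idx_257 {t i : ℕ} (h : 257 * i = 1348736 * t) : i = 5248 * t := by omega

theorem no_S {S : Type*} [Group S] [Finite S] [IsSimpleGroup S] (h1 : 2 ^ 7 ∣ Nat.card S) (h2 : ¬ 2 ^ 8 ∣ Nat.card S)
    (h3 : 41 ∣ Nat.card S) (h4 : 257 ∣ Nat.card S) (h5 : 2097152 ≤ Nat.card S) (h6 : Nat.card S < 8388608) : False := by
  have hF := Fact.mk (show Nat.Prime 257 by norm_num)
  obtain ⟨P⟩ : Nonempty (Sylow 257 S) := inferInstance
  obtain ⟨t, ht⟩ : 1348736 ∣ Nat.card S := dvd_num h1 h3 h4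
  have htodd : ¬ 2 ∣ t := fun h => h2 (by rw [ht]; exact dvd_num' h)
  have ht35 : t = 3 ∨ t = 5 := by
    clear h1 h2 h3 h4
    omega
  have hfac : (Nat.card S).factorization 257 = 1 := by rw [ht]; exact fac_257 ht35
  have hPc : Nat.card (P : Subgroup S) = 257 := by
    have := P.card_eq_multiplicity
    rw [hfac, pow_one] at this
    exact this
  have hidx : (P : Subgroup S).index = 5248 * t := by
    have h22 := (P : Subgroup S).card_mul_index
    rw [hPc, ht] at h22
    exact idx_257 h22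
  have hn1 : Nat.card (Sylow 257 S) ∣ 5248 * t := by
    rw [← hidx]
    exact P.card_dvd_index
  have hn2 : Nat.card (Sylow 257 S) % 257 = 1 := card_sylow_modEq_one 257 S
  have hn : Nat.card (Sylow 257 S) = 1 := mod_257 ht35 hn1 hn2
  have hsub : Subsingleton (Sylow 257 S) := (Nat.card_eq_one_iff_unique.1 hn).1
  have hPn : (P : Subgroup S).Normal := Sylow.normal_of_subsingleton P
  rcases hPn.eq_bot_or_eq_top with h23 | h23
  · rw [h23, Subgroup.card_bot] at hPc
    exact absurd hPc (by norm_num)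
  · rw [h23, Subgroup.card_top] at hPc
    rw [hPc] at h5
    exact absurd h5 (by norm_num)

/-- **(N2)** -/
theorem cubeB {S : Type*} [Group S] [Finite S] [IsSimpleGroup S] {p f m r s : ℕ} (hfr : Fr p f m) (hodd : Odd m)
    (hr : r.Prime) (hro : orderOf (p : ZMod r) = f * m) (hs : s.Prime) (hso : orderOf (p : ZMod s) = f * (m - 1))
    (hrS : r ∣ Nat.card S) (hsS : s ∣ Nat.card S ∨ (s = m ∧ f = 1)) {κ a : ℕ} (_hκ : κ ≤ f * (2 * m - 2))
    (hκ' : f * (2 * m - 2) ≤ κ + l1 p f) (ha : a ≤ (2 * m).factorization p)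
    (hv : (Nat.card S).factorization p + f * m + a = κ)
    (hle : Nat.card S * p ^ (f * (2 * m)) * p ^ a ≤ p ^ κ * ((p ^ (f * m) - 1) * (p ^ (f * (m - 1)) - 1))) :
    Nat.card S < p ^ (3 * (Nat.card S).factorization p) := by
  have hm := hfr.five
  have hf := hfr.f1
  have hp1 := hfr.prime.one_lt
  set v := (Nat.card S).factorization p with hvdef
  -- `|S| < p ^ (κ - a - f)`
  have h1 : Nat.card S * p ^ (f * (2 * m)) * p ^ a < p ^ κ * p ^ (f * (2 * m - 1)) := by
    have h2 : p ^ (f * (2 * m - 1)) = p ^ (f * m) * p ^ (f * (m - 1)) := by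
      rw [← pow_add, ← mul_add]
      congr 2
      omega
    rw [h2]
    refine lt_of_le_of_lt hle ?_
    apply Nat.mul_lt_mul_of_pos_left _ (pow_pos hfr.prime.pos _)
    have h3 : 0 < p ^ (f * m) := pow_pos hfr.prime.pos _
    have h4 : 0 < p ^ (f * (m - 1)) := pow_pos hfr.prime.pos _
    exact Nat.mul_lt_mul_of_lt_of_le (by omega) (by omega) h4
  have h5 : Nat.card S < p ^ (v + f * m - f) := by
    have h6 : p ^ κ * p ^ (f * (2 * m - 1)) = p ^ (v + f * m - f) * p ^ (f * (2 * m)) * p ^ a := by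
      rw [← pow_add, ← pow_add, ← pow_add]
      congr 1
      have h7 : f * (2 * m) = f * (2 * m - 1) + f := by
        conv_lhs => rw [show 2 * m = (2 * m - 1) + 1 by omega]
        ring
      have h8 : f ≤ f * m := Nat.le_mul_of_pos_right f (by omega)
      omega
    rw [h6] at h1
    exact Nat.lt_of_mul_lt_mul_right (Nat.lt_of_mul_lt_mul_right h1)
  have hf2 : f * (2 * m - 2) + 2 * f = 2 * (f * m) := by
    have : 2 * (f * m) = f * (2 * m - 2 + 2) := by
      rw [show 2 * m - 2 + 2 = 2 * m by omega]; ring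
    rw [this]; ring
  have hf3 : f * (m - 3) + 3 * f = f * m := by
    conv_rhs => rw [show m = m - 3 + 3 by omega]
    ring
  rcases num_B hfr hodd ha with ⟨rfl, rfl, rfl⟩ | h6
  · -- the exception
    rw [fact_odd_two hodd] at ha
    have h4 : (4 : ℕ).factorization 2 = 2 := by
      rw [show (4 : ℕ) = 2 ^ 2 by norm_num, Nat.Prime.factorization_pow Nat.prime_two, Finsupp.single_eq_same]
    rw [l1, if_pos rfl, h4] at hκ'
    have hv7 : 7 ≤ v := by omega
    rcases Nat.lt_or_ge 7 v with h8 | h8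
    · refine h5.trans_le (Nat.pow_le_pow_right (by norm_num) ?_)
      omega
    · have hv' : v = 7 := by omega
      rw [hv'] at h5 ⊢
      by_contra hcon
      push Not at hcon
      norm_num at h5 hcon
      have hsS : s ∣ Nat.card S := by
        rcases hsS with h | ⟨-, h⟩
        · exact h
        · omega
      rw [r_eq hr hro] at hrS
      rw [s_eq hs hso] at hsS
      refine no_S (S := S) ?_ ?_ hrS hsS hcon h5
      · have := Nat.ordProj_dvd (Nat.card S) 2
        rw [← hvdef, hv'] at this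
        exact this
      · intro h
        have := (Nat.prime_two.pow_dvd_iff_le_factorization Nat.card_pos.ne').1 h
        omega
  · refine h5.trans_le (Nat.pow_le_pow_right hfr.prime.pos ?_)
    omega

end Cfsg.Agent.H499.Rd
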