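import Cfsg.Agent.H499.Rd.Par
import Cfsg.Agent.H292.Rd.P2

/-!
# S3691, residual case F-D+2 (helper499): (B3) characteristic `p`-subgroups

`no_char` : for odd `m`, `K` has no nontrivial characteristic `p`-subgroup `A`.  `W = Fx ρ A` is `K`-invariant; the kernel of
`K` on `V / W` has order `p ^ (f m)`; the image is transitive on the lines of `V / W` (all the hyperplanes of `W` are stabilised by
an element of order `s`, `Sit.half`, and Sylow `s`-subgroups are conjugate), contradicting `her`.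
-/

set_option autoImplicit false
set_option linter.unusedSectionVars false

namespace Cfsg.Agent.H499.Rd

open Module QuadraticMap Cfsg.Agent.LieClassical.OrthCore Cfsg.Agent.LieClassical.OrthTrans Cfsg.Agent.H955
open Cfsg.Agent.H117.Rd

universe u v w

section hyp

variable {F V K : Type*} [Field F] [Fintype F] [AddCommGroup V] [Module F V] [FiniteDimensional F V] [Group K] [Finite K]
  {ρ : K →* (V ≃ₗ[F] V)} {Q : QuadraticForm F V} {p f m r s : ℕ} {A : Subgroup K} {y z : K}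

/-- `z` of order `s` fixes a vector outside `W` -/
theorem exists_fix_notMem (h : Sit p f m Q ρ) (hs : Pr p f m s (m - 1)) (hp : PS m Q ρ A) (hz : orderOf z = s)
    (hzW : ∀ w ∈ Fx ρ A, ρ z w ∈ Fx ρ A) : ∃ v, v ∉ Fx ρ A ∧ ρ z v = v := by
  have hm := h.fr.five
  have hZ := isPGroup_zpowers hs.prime hz
  have hZ1 := zpowers_ne_bot hs.prime hz
  have h1 := h.dim_Fx hs hZ hZ1
  by_contra hcon
  push Not at hcon
  have h2 : Fx ρ (Subgroup.zpowers z) ≤ Fx ρ A := by
    intro v hv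
    by_contra h3
    exact hcon v h3 (mem_Fx_zpowers.1 hv)
  have hinv : ∀ a ∈ Subgroup.zpowers z, ∀ u ∈ Fx ρ A, ρ a u ∈ Fx ρ A := by
    intro a ha
    have hf : IsOfFinOrder z := isOfFinOrder_of_finite z
    obtain ⟨n, rfl⟩ := hf.mem_powers_iff_mem_zpowers.2 ha
    change ∀ u ∈ Fx ρ A, ρ (z ^ n) u ∈ Fx ρ A
    clear ha
    induction n with
    | zero =>
      intro u hu
      rw [pow_zero, map_one]
      exact hu
    | succ n ih =>
      intro u hu
      rw [pow_succ, rho_mul]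
      exact ih _ (hzW u hu)
  have h3 := dim_dvd (ρ := ρ) h.card h.fr.f1 hs.prime hs.ord (by omega) hZ hinv
  rw [inf_eq_right.2 h2, h1, hp.rank] at h3
  have h4 : m - (2 * m - 2 * (m - 1)) = m - 2 := by omega
  rw [h4] at h3
  have := Nat.le_of_dvd (by omega) h3
  omega

theorem inv_zpowers {H : Submodule F V} (hzH : H.map (ρ z : V →ₗ[F] V) = H) :
    ∀ a ∈ Subgroup.zpowers z, ∀ u ∈ H, ρ a u ∈ H := by
  have h1 : ∀ u ∈ H, ρ z u ∈ H := fun u hu => hzH ▸ ⟨u, hu, rfl⟩
  intro a ha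
  have hf : IsOfFinOrder z := isOfFinOrder_of_finite z
  obtain ⟨n, rfl⟩ := hf.mem_powers_iff_mem_zpowers.2 ha
  change ∀ u ∈ H, ρ (z ^ n) u ∈ H
  clear ha
  induction n with
  | zero =>
    intro u hu
    rw [pow_zero, map_one]
    exact hu
  | succ n ih =>
    intro u hu
    rw [pow_succ, rho_mul]
    exact ih _ (h1 u hu)

/-- `z` of order `s` stabilises at most one hyperplane of `W` -/
theorem hyp_unique (h : Sit p f m Q ρ) (hs : Pr p f m s (m - 1)) {W : Submodule F V} (hW : finrank F W = m) (hz : orderOf z = s)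
    {H₁ H₂ : Submodule F V} (h1 : H₁ ≤ W) (h2 : H₂ ≤ W) (hd1 : finrank F H₁ = m - 1) (hd2 : finrank F H₂ = m - 1)
    (hz1 : H₁.map (ρ z : V →ₗ[F] V) = H₁) (hz2 : H₂.map (ρ z : V →ₗ[F] V) = H₂) : H₁ = H₂ := by
  have hm := h.fr.five
  have hZ := isPGroup_zpowers hs.prime hz
  have hZ1 := zpowers_ne_bot hs.prime hz
  have hF := h.dim_Fx hs hZ hZ1
  by_contra hne
  have h3 := dim_dvd (ρ := ρ) h.card h.fr.f1 hs.prime hs.ord (by omega) hZ (inv_zpowers hz1)
  rw [hd1] at h3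
  have h4 : finrank F (H₁ ⊓ Fx ρ (Subgroup.zpowers z) : Submodule F V) ≤ 2 := by
    have := Submodule.finrank_mono (inf_le_right : H₁ ⊓ Fx ρ (Subgroup.zpowers z) ≤ _)
    omega
  have h5 : finrank F (H₁ ⊓ Fx ρ (Subgroup.zpowers z) : Submodule F V) = 0 := by
    obtain ⟨c, hc⟩ := h3
    rcases Nat.eq_zero_or_pos c with h0 | h0
    · rw [h0] at hc; omega
    · have : (m - 1) * 1 ≤ (m - 1) * c := Nat.mul_le_mul_left _ h0
      omega
  have h6 : ∀ u ∈ H₁ ⊓ H₂, ρ z u ∈ H₁ ⊓ H₂ := by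
    rintro u ⟨hu1, hu2⟩
    refine ⟨?_, ?_⟩
    · have : ρ z u ∈ H₁.map (ρ z : V →ₗ[F] V) := ⟨u, hu1, rfl⟩
      rwa [hz1] at this
    · have : ρ z u ∈ H₂.map (ρ z : V →ₗ[F] V) := ⟨u, hu2, rfl⟩
      rwa [hz2] at this
  have h7 : ∀ a ∈ Subgroup.zpowers z, ∀ u ∈ H₁ ⊓ H₂, ρ a u ∈ H₁ ⊓ H₂ := fun a ha u hu =>
    ⟨inv_zpowers hz1 a ha u hu.1, inv_zpowers hz2 a ha u hu.2⟩
  have h8 := dim_dvd (ρ := ρ) h.card h.fr.f1 hs.prime hs.ord (by omega) hZ h7
  have h9 : finrank F ((H₁ ⊓ H₂) ⊓ Fx ρ (Subgroup.zpowers z) : Submodule F V) = 0 := by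
    have := Submodule.finrank_mono (show (H₁ ⊓ H₂) ⊓ Fx ρ (Subgroup.zpowers z) ≤ H₁ ⊓ Fx ρ (Subgroup.zpowers z) from
      inf_le_inf_right _ inf_le_left)
    omega
  have h10 := Submodule.finrank_sup_add_finrank_inf_eq H₁ H₂
  have h11 : finrank F (H₁ ⊔ H₂ : Submodule F V) ≤ m := hW ▸ Submodule.finrank_mono (sup_le h1 h2)
  have h12 : finrank F (H₁ ⊓ H₂ : Submodule F V) < m - 1 := by
    rw [← hd1]
    apply Submodule.finrank_lt_finrank_of_lt
    refine lt_of_le_of_ne inf_le_left fun h13 => hne ?_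
    have h14 : H₁ ≤ H₂ := inf_eq_left.1 h13
    exact Submodule.eq_of_le_of_finrank_eq h14 (by rw [hd1, hd2])
  rw [h9, Nat.sub_zero] at h8
  have := Nat.le_of_dvd (by omega) h8
  omega

/-- the hyperplane `W ⊓ v^⊥` -/
def HH (Q : QuadraticForm F V) (W : Submodule F V) (v : V) : Submodule F V := W ⊓ perp Q (Submodule.span F {v})

theorem mem_HH {W : Submodule F V} {v w : V} : w ∈ HH Q W v ↔ w ∈ W ∧ polar Q v w = 0 := by
  rw [HH, Submodule.mem_inf, mem_perp]
  refine and_congr_right fun _ => ⟨fun h => h v (Submodule.mem_span_singleton_self v), fun h x hx => ?_⟩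
  obtain ⟨c, rfl⟩ := Submodule.mem_span_singleton.1 hx
  rw [polar_smul_left, h, smul_zero]

theorem map_HH (h : Sit p f m Q ρ) {W : Submodule F V} (hW : ∀ g, W.map (ρ g : V →ₗ[F] V) = W) (g : K) (v : V) :
    (HH Q W v).map (ρ g : V →ₗ[F] V) = HH Q W (ρ g v) := by
  have key : ∀ (g : K) (v x : V), x ∈ HH Q W v → ρ g x ∈ HH Q W (ρ g v) := by
    intro g v x hx
    rw [mem_HH] at hx ⊢
    refine ⟨?_, by rw [polar_rho h.iso]; exact hx.2⟩
    have : ρ g x ∈ W.map (ρ g : V →ₗ[F] V) := ⟨x, hx.1, rfl⟩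
    rwa [hW] at this
  apply le_antisymm
  · rintro _ ⟨x, hx, rfl⟩
    exact key g v x hx
  · intro x hx
    refine ⟨ρ g⁻¹ x, ?_, rho_apply_inv g x⟩
    have := key g⁻¹ _ x hx
    rwa [rho_inv_apply] at this

theorem finrank_HH (h : Sit p f m Q ρ) {W : Submodule F V} (hW : finrank F W = m) (hWp : perp Q W = W) {v : V} (hv : v ∉ W) :
    finrank F (HH Q W v) = m - 1 ∧ perp Q (HH Q W v) = W ⊔ Submodule.span F {v} := by
  have hm := h.fr.five
  have hv0 : v ≠ 0 := by
    rintro rfl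
    exact hv W.zero_mem
  have h1 : finrank F (W ⊔ Submodule.span F {v} : Submodule F V) = m + 1 := by
    have h2 := Submodule.finrank_sup_add_finrank_inf_eq W (Submodule.span F {v})
    have h3 : W ⊓ Submodule.span F {v} = ⊥ := by
      rw [eq_bot_iff]
      rintro x ⟨hx1, hx2⟩
      obtain ⟨c, rfl⟩ := Submodule.mem_span_singleton.1 hx2
      by_cases hc : c = 0
      · rw [hc, zero_smul]; exact Submodule.zero_mem _
      · exfalso
        apply hv
        have := W.smul_mem c⁻¹ hx1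
        rwa [smul_smul, inv_mul_cancel₀ hc, one_smul] at this
    rw [h3, finrank_bot, hW, finrank_span_singleton hv0] at h2
    omega
  have h2 : HH Q W v = perp Q (W ⊔ Submodule.span F {v}) := by
    ext x
    rw [mem_HH, mem_perp]
    constructor
    · rintro ⟨hx1, hx2⟩ w hw
      obtain ⟨w1, hw1, w2, hw2, rfl⟩ := Submodule.mem_sup.1 hw
      obtain ⟨c, rfl⟩ := Submodule.mem_span_singleton.1 hw2
      rw [← hWp] at hx1
      rw [polar_add_left, hx1 w1 hw1, polar_smul_left, hx2, smul_zero, add_zero]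
    · intro hx
      refine ⟨?_, hx v (Submodule.mem_sup_right (Submodule.mem_span_singleton_self v))⟩
      rw [← hWp, mem_perp]
      exact fun w hw => hx w (Submodule.mem_sup_left hw)
  have h3 := finrank_add_perp h.nondeg (W ⊔ Submodule.span F {v})
  rw [h.dim, h1, ← h2] at h3
  refine ⟨by omega, ?_⟩
  have h4 := finrank_add_perp h.nondeg (HH Q W v)
  rw [h.dim] at h4
  refine (Submodule.eq_of_le_of_finrank_eq ?_ (by omega)).symm
  rw [h2]
  intro x hx
  rw [mem_perp']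
  exact fun w hw => hw x hx

/-- **transitivity** -/
theorem trans_lines (h : Sit p f m Q ρ) (hs : Pr p f m s (m - 1)) (hAc : A.Characteristic)
    (hp : PS m Q ρ A) (hW : ∀ g, (Fx ρ A).map (ρ g : V →ₗ[F] V) = Fx ρ A) {v w : V} (hv : v ∉ Fx ρ A) (hw : w ∉ Fx ρ A) :
    ∃ (g : K) (c : F), ρ g v - c • w ∈ Fx ρ A := by
  classical
  have hm := h.fr.five
  have hsF := Fact.mk hs.prime
  have hsK : s ∣ Nat.card K := h.prim s hs.prime (Or.inr hs.ord)
  obtain ⟨z, hz⟩ := exists_prime_orderOf_dvd_card' s hsK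
  have hW' : ∀ g : K, ∀ x ∈ Fx ρ A, ρ g x ∈ Fx ρ A := by
    intro g x hx
    have : ρ g x ∈ (Fx ρ A).map (ρ g : V →ₗ[F] V) := ⟨x, hx, rfl⟩
    rwa [hW] at this
  obtain ⟨u, hu, hzu⟩ := exists_fix_notMem h hs hp hz (hW' z)
  let St : Submodule F V → Subgroup K := fun H =>
    { carrier := {g | H.map (ρ g : V →ₗ[F] V) = H}
      one_mem' := by
        change H.map (ρ 1 : V →ₗ[F] V) = H
        rw [map_one]
        exact Submodule.map_id H
      mul_mem' := by
        intro a b ha hb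
        change H.map (ρ (a * b) : V →ₗ[F] V) = H
        have : ((ρ (a * b) : V ≃ₗ[F] V) : V →ₗ[F] V) = (ρ a : V →ₗ[F] V) ∘ₗ (ρ b : V →ₗ[F] V) := by
          ext x
          exact rho_mul a b x
        rw [this, Submodule.map_comp]
        change H.map (ρ a : V →ₗ[F] V) = H at ha
        change H.map (ρ b : V →ₗ[F] V) = H at hb
        rw [hb, ha]
      inv_mem' := by
        intro a ha
        change H.map (ρ a : V →ₗ[F] V) = H at ha
        change H.map (ρ a⁻¹ : V →ₗ[F] V) = H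
        conv_lhs => rw [← ha]
        rw [← Submodule.map_comp]
        have : ((ρ a⁻¹ : V ≃ₗ[F] V) : V →ₗ[F] V) ∘ₗ (ρ a : V →ₗ[F] V) = LinearMap.id := by
          ext x
          exact rho_inv_apply a x
        rw [this, Submodule.map_id] }
  have hSt : ∀ H (g : K), g ∈ St H ↔ H.map (ρ g : V →ₗ[F] V) = H := fun H g => Iff.rfl
  have hcardSt : ∀ H, Nat.card (St H) = Nat.card {g : K // H.map (ρ g : V →ₗ[F] V) = H} := fun H => rfl
  -- an element of order `s`
  have key : ∀ H ≤ Fx ρ A, finrank F H = m - 1 → ∃ P : Sylow s K, (P : Subgroup K) ≤ St H ∧ ∃ x ∈ P, orderOf x = s := by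
    intro H hH hd
    have h1 : s ∣ Nat.card (St (HH Q (Fx ρ A) u)) := by
      rw [← hz]
      have h2 : z ∈ St (HH Q (Fx ρ A) u) := by
        rw [hSt, map_HH h hW, hzu]
      rw [← Subgroup.orderOf_mk z h2]
      exact orderOf_dvd_natCard _
    rw [hcardSt, h.half A hAc (Fx ρ A) (fun _ => Iff.rfl) hp.rank hp.sing _ (fun x hx => (mem_HH.1 hx).1) H hH
      (finrank_HH h hp.rank hp.perp_eq hu).1 hd, ← hcardSt] at h1
    obtain ⟨x, hx⟩ := exists_prime_orderOf_dvd_card' s h1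
    have hxo : orderOf (x : K) = s := by rw [Subgroup.orderOf_coe]; exact hx
    obtain ⟨P, hP⟩ := (isPGroup_zpowers hs.prime hxo).exists_le_sylow
    have hxP : (x : K) ∈ P := hP (Subgroup.mem_zpowers _)
    refine ⟨P, ?_, x, hxP, hxo⟩
    intro g hg
    have hcyc := h.cyc hs P.isPGroup'
    have hcomm : g * (x : K) = x * g := by
      have := hcyc.commGroup.mul_comm (⟨g, hg⟩ : P) ⟨x, hxP⟩
      exact congrArg Subtype.val this
    rw [hSt]
    have hgle : H.map (ρ g : V →ₗ[F] V) ≤ Fx ρ A := by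
      rintro _ ⟨a, ha, rfl⟩
      exact hW' g a (hH ha)
    have hgd : finrank F (H.map (ρ g : V →ₗ[F] V)) = m - 1 := by
      rw [LinearEquiv.finrank_map_eq (ρ g) H, hd]
    have hxH : H.map (ρ (x : K) : V →ₗ[F] V) = H := x.2
    refine hyp_unique h hs hp.rank hxo hgle hH hgd hd ?_ hxH
    rw [← Submodule.map_comp]
    have : ((ρ (x : K) : V ≃ₗ[F] V) : V →ₗ[F] V) ∘ₗ (ρ g : V →ₗ[F] V) = (ρ g : V →ₗ[F] V) ∘ₗ (ρ (x : K) : V →ₗ[F] V) := by
      ext a
      change ρ (x : K) (ρ g a) = ρ g (ρ (x : K) a)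
      rw [← rho_mul, ← rho_mul, hcomm]
    rw [this, Submodule.map_comp, hxH]
  obtain ⟨hdv, hpv⟩ := finrank_HH h hp.rank hp.perp_eq hv
  obtain ⟨hdw, hpw⟩ := finrank_HH h hp.rank hp.perp_eq hw
  obtain ⟨P1, hP1, x1, hx1, hxo1⟩ := key _ (fun x hx => (mem_HH.1 hx).1) hdv
  obtain ⟨P2, hP2, -⟩ := key _ (fun x hx => (mem_HH.1 hx).1) hdw
  obtain ⟨g, hg⟩ := MulAction.exists_smul_eq K P1 P2
  have hgx : g * x1 * g⁻¹ ∈ P2 := by
    rw [← hg]
    exact Subgroup.smul_mem_pointwise_smul x1 (MulAut.conj g) (P1 : Subgroup K) hx1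
  have hgo : orderOf (g * x1 * g⁻¹) = s := by
    rw [← hxo1]
    exact (MulAut.conj g).orderOf_eq x1
  have hgv : ρ g v ∉ Fx ρ A := by
    intro hcon
    have := hW' g⁻¹ _ hcon
    rw [rho_inv_apply] at this
    exact hv this
  obtain ⟨hdg, hpg⟩ := finrank_HH h hp.rank hp.perp_eq hgv
  have hgH : (HH Q (Fx ρ A) (ρ g v)).map (ρ (g * x1 * g⁻¹) : V →ₗ[F] V) = HH Q (Fx ρ A) (ρ g v) := by
    rw [map_HH h hW, rho_mul, rho_mul, rho_inv_apply, ← map_HH h hW g (ρ x1 v), ← map_HH h hW x1 v, ← map_HH h hW g v]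
    rw [(hSt _ _).1 (hP1 hx1)]
  have heq := hyp_unique h hs hp.rank hgo (fun x hx => (mem_HH.1 hx).1) (fun x hx => (mem_HH.1 hx).1) hdg hdw hgH
    ((hSt _ _).1 (hP2 hgx))
  have h1 : ρ g v ∈ Fx ρ A ⊔ Submodule.span F {w} := by
    rw [← hpw, ← heq, hpg]
    exact Submodule.mem_sup_right (Submodule.mem_span_singleton_self _)
  obtain ⟨a, ha, b, hb, hab⟩ := Submodule.mem_sup.1 h1
  obtain ⟨c, rfl⟩ := Submodule.mem_span_singleton.1 hb
  refine ⟨g, c, ?_⟩
  rw [← hab, add_sub_cancel_right]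
  exact ha

/-- the action on `V / W` -/
def quoRep (ρ : K →* (V ≃ₗ[F] V)) (W : Submodule F V) (hW : ∀ g, W.map (ρ g : V →ₗ[F] V) = W) :
    K →* ((V ⧸ W) ≃ₗ[F] (V ⧸ W)) where
  toFun g := Submodule.Quotient.equiv W W (ρ g) (hW g)
  map_one' := by
    ext x
    obtain ⟨x, rfl⟩ := Submodule.Quotient.mk_surjective W x
    change Submodule.Quotient.mk (ρ 1 x) = Submodule.Quotient.mk x
    rw [map_one]
    rfl
  map_mul' g k := by
    ext x
    obtain ⟨x, rfl⟩ := Submodule.Quotient.mk_surjective W x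
    change Submodule.Quotient.mk (ρ (g * k) x) = Submodule.Quotient.mk (ρ g (ρ k x))
    rw [rho_mul]

theorem quoRep_mk {W : Submodule F V} {hW : ∀ g, W.map (ρ g : V →ₗ[F] V) = W} (g : K) (x : V) :
    quoRep ρ W hW g (Submodule.Quotient.mk x) = Submodule.Quotient.mk (ρ g x) := rfl

/-- the kernel on `V / W` -/
theorem ker_card (h : Sit p f m Q ρ) (hr : Pr p f m r m) (hodd : Odd m) (hA1 : A ≠ ⊥) (hp : PS m Q ρ A)
    (hW : ∀ g, (Fx ρ A).map (ρ g : V →ₗ[F] V) = Fx ρ A) : Nat.card (quoRep ρ (Fx ρ A) hW).ker = p ^ (f * m) := by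
  have hchar := h.charP
  have hrK : r ∣ Nat.card K := h.prim r hr.prime (Or.inl hr.ord)
  have hrF := Fact.mk hr.prime
  obtain ⟨y, hy⟩ := exists_prime_orderOf_dvd_card' r hrK
  have hker : ∀ g ∈ (quoRep ρ (Fx ρ A) hW).ker, ∀ v, ρ g v - v ∈ Fx ρ A := by
    intro g hg v
    rw [MonoidHom.mem_ker] at hg
    have h1 := LinearEquiv.congr_fun hg (Submodule.Quotient.mk v)
    rw [quoRep_mk] at h1
    exact (Submodule.Quotient.eq _).1 h1
  have hfix : ∀ g ∈ (quoRep ρ (Fx ρ A) hW).ker, ∀ x ∈ Fx ρ A, ρ g x = x := by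
    intro g hg x hx
    apply sub_eq_zero.1
    apply h.nondeg
    intro v
    rw [polar_sub_left, polar_rho_left h.iso, ← polar_sub_right]
    have h1 := hker g⁻¹ (inv_mem hg) v
    rw [← hp.perp_eq] at hx
    rw [polar_comm]
    exact hx _ h1
  have hpg : IsPGroup p (quoRep ρ (Fx ρ A) hW).ker := by
    rintro ⟨g, hg⟩
    refine ⟨1, Subtype.ext ?_⟩
    rw [pow_one]
    change g ^ p = 1
    apply h.inj
    rw [map_one]
    ext v
    have h1 : ∀ n : ℕ, ρ (g ^ n) v = v + n • (ρ g v - v) := by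
      intro n
      induction n with
      | zero =>
        rw [pow_zero, map_one, zero_smul, add_zero]; rfl
      | succ n ih =>
        rw [pow_succ', rho_mul, ih, map_add, map_nsmul, hfix g hg _ (hker g hg v), succ_nsmul]
        abel
    rw [h1 p, ← Nat.cast_smul_eq_nsmul F, CharP.cast_eq_zero, zero_smul, add_zero]
    rfl
  have hle : A ≤ (quoRep ρ (Fx ρ A) hW).ker := by
    intro a ha
    rw [MonoidHom.mem_ker]
    ext x
    obtain ⟨x, rfl⟩ := Submodule.Quotient.mk_surjective _ x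
    rw [quoRep_mk]
    exact (Submodule.Quotient.eq _).2 (hp.triv a ha x)
  have hne : (quoRep ρ (Fx ρ A) hW).ker ≠ ⊥ := fun h0 => hA1 (le_bot_iff.1 (h0 ▸ hle))
  exact card_ps h hr hodd hpg hne hy (by rw [Subgroup.normalizer_eq_top]; trivial)

end hyp

/-- **(B3)** -/
theorem no_char (hX : ∀ (X : Type u) [Group X] [Finite X] [IsSimpleGroup X], IsKnownSimple' X)
    {F : Type v} {V : Type u} {K : Type w} [Field F] [Fintype F] [AddCommGroup V] [Module F V] [FiniteDimensional F V]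
    [Group K] [Finite K] {ρ : K →* (V ≃ₗ[F] V)} {Q : QuadraticForm F V} {p f m r s : ℕ} (h : Sit p f m Q ρ)
    (hr : Pr p f m r m) (hs : Pr p f m s (m - 1)) (hodd : Odd m) {A : Subgroup K} (hAc : A.Characteristic) (hA : IsPGroup p A)
    (hA1 : A ≠ ⊥) : False := by
  have hm := h.fr.five
  have hf := h.fr.f1
  have hrK : r ∣ Nat.card K := h.prim r hr.prime (Or.inl hr.ord)
  have hrF := Fact.mk hr.prime
  have hpF := Fact.mk h.fr.prime
  obtain ⟨y, hy⟩ := exists_prime_orderOf_dvd_card' r hrK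
  have hN : ∀ g : K, g ∈ Subgroup.normalizer (A : Set K) := by
    intro g
    rw [Subgroup.normalizer_eq_top]
    trivial
  have hp := ps h hr hA hA1 hy (hN y)
  have hW : ∀ g, (Fx ρ A).map (ρ g : V →ₗ[F] V) = Fx ρ A := by
    intro g
    refine Submodule.eq_of_le_of_finrank_eq ?_ (LinearEquiv.finrank_map_eq (ρ g) _)
    rintro _ ⟨x, hx, rfl⟩
    exact Fx_inv (hN g) hx
  have hc := ker_card h hr hodd hA1 hp hW
  set κ := quoRep ρ (Fx ρ A) hW with hκ
  have hfinV : Finite V := Module.finite_of_finite F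
  have h1 : Nat.card κ.ker * Nat.card κ.range = Nat.card K := by
    rw [← κ.ker.card_mul_index, Subgroup.index_ker]
  have hfinR : Finite κ.range := Finite.of_surjective κ.rangeRestrict κ.rangeRestrict_surjective
  have hfinQ : Finite (V ⧸ Fx ρ A) := Finite.of_surjective _ (Submodule.Quotient.mk_surjective (Fx ρ A))
  have hR0 : Nat.card κ.range ≠ 0 := Nat.card_pos.ne'
  have h2 : (Nat.card K).factorization p = f * m + (Nat.card κ.range).factorization p := by
    rw [← h1, hc, Nat.factorization_mul (pow_ne_zero _ h.fr.prime.ne_zero) hR0, Finsupp.add_apply,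
      h.fr.prime.factorization_pow, Finsupp.single_eq_same]
  have h3 : (Nat.card K).factorization p ≤ f * (2 * m - 2) := card_le_of_sit h (Nat.ordProj_dvd _ _)
  have h4 := h.val
  have h5 : f * (2 * m - 2) = f * m + f * (m - 2) := by
    rw [← mul_add]
    congr 1
    omega
  have hsK : s ∣ Nat.card K := h.prim s hs.prime (Or.inr hs.ord)
  refine Cfsg.Agent.H292.Rd.her hX h.fr hodd h.card (W := V ⧸ Fx ρ A) ?_ κ.range ?_ (by omega) (by omega) hs.prime hs.ord ?_
  · have h6 := Submodule.finrank_quotient_add_finrank (Fx ρ A)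
    rw [hp.rank, h.dim] at h6
    omega
  · intro v w hv hw
    obtain ⟨v, rfl⟩ := Submodule.Quotient.mk_surjective _ v
    obtain ⟨w, rfl⟩ := Submodule.Quotient.mk_surjective _ w
    rw [Ne, Submodule.Quotient.mk_eq_zero] at hv hw
    obtain ⟨g, c, hgc⟩ := trans_lines h hs hAc hp hW hv hw
    refine ⟨κ g, ⟨g, rfl⟩, c, ?_⟩
    rw [hκ, quoRep_mk, ← Submodule.Quotient.mk_smul]
    exact (Submodule.Quotient.eq _).2 hgc
  · rw [← h1, hc, hs.prime.dvd_mul] at hsK
    refine hsK.resolve_left fun h6 => ?_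
    exact hs.ne_p h.fr ((Nat.prime_dvd_prime_iff_eq hs.prime h.fr.prime).1 (hs.prime.dvd_of_dvd_pow h6))

/-- the stub of helper117 -/
theorem char_false (hX : ∀ (X : Type u) [Group X] [Finite X] [IsSimpleGroup X], IsKnownSimple' X)
    {F : Type v} {V : Type u} {K : Type w} [Field F] [Fintype F] [AddCommGroup V] [Module F V] [FiniteDimensional F V]
    [Group K] [Finite K] {ρ : K →* (V ≃ₗ[F] V)} {Q : QuadraticForm F V} {p f m r s : ℕ} (h : Sit p f m Q ρ)
    (hr : Pr p f m r m) (hs : Pr p f m s (m - 1)) (hodd : Odd m) (A : Subgroup K) [hAc : A.Characteristic]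
    (hA : IsPGroup p A) (hA1 : A ≠ ⊥) : False :=
  no_char hX h hr hs hodd hAc hA hA1

end Cfsg.Agent.H499.Rd
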