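import Cfsg.Agent.H499.Rd.P3
import Cfsg.Agent.H559.D2.Fin

/-!
# S3691, residual case F-D+2, P3 (helper499): `Sit` for `T ≃* PΩ⁺(2m, q)`

* `fr_of_szD` : `Fr` from the table of sizes
* `sit_gen` : any universe, with `|Out T|` and the size as hypotheses
* `sit_plus` : no hypotheses besides `Fac`, `ResP`
-/

set_option autoImplicit false

namespace Cfsg.Agent.H499.Rd

open Module QuadraticMap Cfsg Cfsg.Geo Cfsg.Agent.LieClassical.OrthCore Cfsg.Agent.LieClassical.OrthTrans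
  Cfsg.Agent.H454.Reg Cfsg.Agent.H955 Cfsg.Agent.H449.Reg Cfsg.Agent.H964.Rg Cfsg.Agent.H826.Rg
open Cfsg.Agent.H386.Rg (SzD D2)
open Cfsg.Agent.H117.Rd (Fr Sit)

universe u v

theorem fr_of_szD {p f m : ℕ} (hp : p.Prime) (hf1 : 1 ≤ f) (hm : 5 ≤ m) (hS : SzD m (p ^ f)) : Fr p f m where
  prime := hp
  f1 := hf1
  five := hm
  two := by
    rintro rfl rfl
    by_contra h
    have := hS.2 (by omega)
    omega
  four := by
    rintro rfl rfl
    by_contra h
    have := hS.1 (by omega)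
    omega
  three := by
    rintro rfl rfl
    by_contra h
    have := hS.1 (by omega)
    omega

theorem plus_of_isPlus {F V : Type*} [Field F] [AddCommGroup V] [Module F V] {Q : QuadraticForm F V} {m : ℕ} (hpl : IsPlus Q)
    (hd : finrank F V = 2 * m) : ∃ W : Submodule F V, (∀ w ∈ W, Q w = 0) ∧ finrank F W = m := by
  obtain ⟨W, hW, hWd⟩ := hpl
  exact ⟨W, hW, by omega⟩

/-- **(P3)**, any universe -/
theorem sit_gen {ι : Type} [Fintype ι] [DecidableEq ι] {F : Type v} [Field F] [Fintype F] {Q : QuadraticForm F (ι → F)}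
    {G : Type u} [Group G] [Finite G] {T X Y : Subgroup G} [T.Normal] {hG : Good Q} {eT : T ≃* POmega F (⇑Q)}
    {hI : Ind (eP hG eT)} {P : Submodule F (ι → F)} (hfac : Fac T X Y) {p f m : ℕ} (hp : p.Prime) (hf1 : 1 ≤ f) (hm : 5 ≤ m)
    (hF : Fintype.card F = p ^ f) (hι : Fintype.card ι = 2 * m) (hpl : IsPlus Q) (hP : ResP hI X P)
    (hout : Nat.card (Cfsg.Out T) ∣ (if p = 2 then 2 else 8) * f) (hS : SzD m (p ^ f)) : Sit p f m Q (rhoY eT Y) :=
  sit_of_d2 hfac (fr_of_szD hp hf1 hm hS) hF hι hpl hP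
    (H559.D2.d2 hfac hP hp hf1 (by rw [Nat.card_eq_fintype_card, hF]) hι hm
      (plus_of_isPlus hpl (by rw [Module.finrank_fintype_fun_eq_card, hι])) hout hS)

/-- **(P3)** for `PΩ⁺(2m, q)` -/
theorem sit_plus {ι F : Type} [Fintype ι] [DecidableEq ι] [Field F] [Fintype F] {Q : QuadraticForm F (ι → F)}
    {G : Type u} [Group G] [Finite G] {T X Y : Subgroup G} [T.Normal] {hG : Good Q} {eT : T ≃* POmega F (⇑Q)}
    {hI : Ind (eP hG eT)} {P : Submodule F (ι → F)} (hfac : Fac T X Y) {p f m : ℕ} (hp : p.Prime) (hf1 : 1 ≤ f) (hm : 5 ≤ m)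
    (hF : Fintype.card F = p ^ f) (hι : Fintype.card ι = 2 * m) (hpl : IsPlus Q) (hP : ResP hI X P)
    (e : T ≃* POmega F (quadFormPlus m F)) : Sit p f m Q (rhoY eT Y) := by
  have hF' : Nat.card F = p ^ f := by rw [Nat.card_eq_fintype_card, hF]
  have hD := H559.D2.d2_plus (hG := hG) (eT := eT) hfac hP hp hf1 hF' hι hm
    (plus_of_isPlus hpl (by rw [Module.finrank_fintype_fun_eq_card, hι])) e
  exact sit_of_d2 hfac (fr_of_szD hp hf1 hm hD.size) hF hι hpl hP hD

end Cfsg.Agent.H499.Rd
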