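import Mathlib
import Cfsg.Agent.H955.QClass
import Cfsg.Agent.H117.Rd.Defs

/-!
# S3691, residual case F-D+2, P3 (helper499): the number of the pairs of vectors with a given anisotropic Gram matrix

* `card_pairs` : in a plus type space of dimension `2m` over the field with `q` elements, the number of the pairs `(u, w)` with
  `Q u = a`, `Q w = b`, `polar Q u w = c`, where `a s² + c s t + b t²` is anisotropic, is `q^(2m-2) (q^m - 1) (q^(m-1) - 1)`.
-/

set_option autoImplicit false

namespace Cfsg.Agent.H499.Rd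

open Module QuadraticMap Cfsg.Agent.LieClassical.OrthCore Cfsg.Agent.LieClassical.QuadForms Cfsg.Agent.H955

section fibre

variable {F : Type*} [Field F]

/-- all fibres of a surjective linear map have the same size -/
theorem card_fibre_mul {A B : Type*} [AddCommGroup A] [AddCommGroup B] [Module F A] [Module F B] [Finite A] [Finite B]
    (L : A →ₗ[F] B) (hL : Function.Surjective L) (b : B) : Nat.card {v // L v = b} * Nat.card B = Nat.card A := by
  obtain ⟨v0, hv0⟩ := hL b
  have h1 : ∀ c : B, Nat.card {v // L v = c} = Nat.card {v // L v = b} := by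
    intro c
    obtain ⟨v1, hv1⟩ := hL c
    refine Nat.card_congr ⟨fun v => ⟨v.1 + (v0 - v1), by rw [map_add, map_sub, v.2, hv0, hv1]; abel⟩,
      fun v => ⟨v.1 + (v1 - v0), by rw [map_add, map_sub, v.2, hv0, hv1]; abel⟩, fun v => ?_, fun v => ?_⟩
    · apply Subtype.ext
      change v.1 + (v0 - v1) + (v1 - v0) = v.1
      abel
    · apply Subtype.ext
      change v.1 + (v1 - v0) + (v0 - v1) = v.1
      abel
  have := Fintype.ofFinite B
  have h2 : Nat.card A = ∑ c : B, Nat.card {v // L v = c} := by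
    rw [← Nat.card_sigma]
    exact Nat.card_congr (Equiv.sigmaFiberEquiv L).symm
  rw [h2, Finset.sum_congr rfl fun c _ => h1 c, Finset.sum_const, Finset.card_univ, smul_eq_mul, Nat.card_eq_fintype_card (α := B),
    mul_comm]

/-- the linear map given by the two rows of `s` -/
def rows {m : ℕ} (s : Fin 2 → Fin m → F) : (Fin m → F) →ₗ[F] (Fin 2 → F) := (Matrix.of s).mulVecLin

theorem rows_apply {m : ℕ} (s : Fin 2 → Fin m → F) (v : Fin m → F) (i : Fin 2) : rows s v i = ∑ j, s i j * v j := rfl

theorem rows_surjective {m : ℕ} {s : Fin 2 → Fin m → F} (hs : LinearIndependent F s) : Function.Surjective (rows s) := by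
  have h1 := LinearIndependent.rank_matrix (M := Matrix.of s) hs
  rw [Fintype.card_fin, Matrix.rank] at h1
  rw [← LinearMap.range_eq_top]
  apply Submodule.eq_top_of_finrank_eq
  rw [Module.finrank_fintype_fun_eq_card, Fintype.card_fin]
  exact h1

/-- the three conditions on `(φ, ψ)` -/
def trip {m : ℕ} (s : Fin 2 → Fin m → F) : ((Fin m → F) × (Fin m → F)) →ₗ[F] (F × F × F) where
  toFun z := (rows s z.1 0, rows s z.2 1, rows s z.1 1 + rows s z.2 0)
  map_add' z w := by
    simp only [Prod.fst_add, Prod.snd_add, map_add, Pi.add_apply, Prod.mk_add_mk]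
    refine Prod.ext rfl (Prod.ext rfl ?_)
    change _ + _ + (_ + _) = _ + _ + (_ + _)
    ring
  map_smul' c z := by
    simp only [Prod.smul_fst, Prod.smul_snd, map_smul, Pi.smul_apply, RingHom.id_apply, Prod.smul_mk, smul_add]

theorem trip_surjective {m : ℕ} {s : Fin 2 → Fin m → F} (hs : LinearIndependent F s) : Function.Surjective (trip s) := by
  rintro ⟨a, b, c⟩
  obtain ⟨φ, hφ⟩ := rows_surjective hs ![a, c]
  obtain ⟨ψ, hψ⟩ := rows_surjective hs ![0, b]
  refine ⟨(φ, ψ), ?_⟩
  change (rows s φ 0, rows s ψ 1, rows s φ 1 + rows s ψ 0) = _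
  rw [hφ, hψ]
  simp

theorem card_trip [Finite F] {m : ℕ} {s : Fin 2 → Fin m → F} (hs : LinearIndependent F s) (z : F × F × F) :
    Nat.card {v // trip s v = z} * Nat.card F ^ 3 = Nat.card F ^ (2 * m) := by
  have h1 := card_fibre_mul (trip s) (trip_surjective hs) z
  rw [Nat.card_prod, Nat.card_prod, Nat.card_prod, Nat.card_fun, Nat.card_fin] at h1
  rw [pow_succ, pow_two, mul_assoc (Nat.card F), h1, two_mul, pow_add]

end fibre

section model

variable {F : Type*} [Field F]

/-- the pair of the first components is linearly independent -/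
theorem li_of_aniso {m : ℕ} {a b c : F} (hab : ∀ s t : F, a * s ^ 2 + c * (s * t) + b * t ^ 2 = 0 → s = 0 ∧ t = 0)
    {u w : Fin m ⊕ Fin m → F} (hu : plusForm m F u = a) (hw : plusForm m F w = b) (huw : polar (plusForm m F) u w = c) :
    LinearIndependent F ![fun i => u (.inl i), fun i => w (.inl i)] := by
  rw [LinearIndependent.pair_iff]
  intro s t h
  refine hab s t ?_
  have h1 : ∀ i, s * u (.inl i) + t * w (.inl i) = 0 := fun i => congrFun h i
  have h2 : plusForm m F (s • u + t • w) = 0 := by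
    rw [plusForm_apply]
    refine Finset.sum_eq_zero fun i _ => ?_
    change (s * u (.inl i) + t * w (.inl i)) * _ = 0
    rw [h1, zero_mul]
  rw [Q_add, QuadraticMap.map_smul, QuadraticMap.map_smul, polar_smul_left, polar_smul_right, hu, hw, huw] at h2
  rw [← h2]
  simp only [smul_eq_mul]
  ring

theorem mem_iff {m : ℕ} {a b c : F} {u w : Fin m ⊕ Fin m → F} :
    (plusForm m F u = a ∧ plusForm m F w = b ∧ polar (plusForm m F) u w = c) ↔
      trip ![fun i => u (.inl i), fun i => w (.inl i)] (fun i => u (.inr i), fun i => w (.inr i)) = (a, b, c) := by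
  have h1 : trip ![fun i => u (.inl i), fun i => w (.inl i)] (fun i => u (.inr i), fun i => w (.inr i)) =
      (plusForm m F u, plusForm m F w, polar (plusForm m F) u w) := by
    refine Prod.ext ?_ (Prod.ext ?_ ?_)
    · change _ = plusForm m F u
      rw [plusForm_apply]; rfl
    · change _ = plusForm m F w
      rw [plusForm_apply]; rfl
    · change _ = polar (plusForm m F) u w
      rw [polar_plusForm, Finset.sum_add_distrib, add_comm]
      rfl
  rw [h1, Prod.mk.injEq, Prod.mk.injEq]

/-- the pairs as a sigma type -/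
def pairEquiv {m : ℕ} {a b c : F} (hab : ∀ s t : F, a * s ^ 2 + c * (s * t) + b * t ^ 2 = 0 → s = 0 ∧ t = 0) :
    {z : (Fin m ⊕ Fin m → F) × (Fin m ⊕ Fin m → F) // plusForm m F z.1 = a ∧ plusForm m F z.2 = b ∧
      polar (plusForm m F) z.1 z.2 = c} ≃
    (Σ s : {s : Fin 2 → (Fin m → F) // LinearIndependent F s}, {v // trip s.1 v = (a, b, c)}) where
  toFun z := ⟨⟨![fun i => z.1.1 (.inl i), fun i => z.1.2 (.inl i)], li_of_aniso hab z.2.1 z.2.2.1 z.2.2.2⟩,
    ⟨(fun i => z.1.1 (.inr i), fun i => z.1.2 (.inr i)), mem_iff.1 z.2⟩⟩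
  invFun y := ⟨(Sum.elim (y.1.1 0) y.2.1.1, Sum.elim (y.1.1 1) y.2.1.2), by
    rw [mem_iff]
    have h1 : ![fun i => Sum.elim (y.1.1 0) y.2.1.1 (.inl i), fun i => Sum.elim (y.1.1 1) y.2.1.2 (.inl i)] = y.1.1 := by
      funext i
      fin_cases i <;> rfl
    rw [h1]
    exact y.2.2⟩
  left_inv z := by
    apply Subtype.ext
    refine Prod.ext ?_ ?_
    · funext i
      rcases i with i | i <;> rfl
    · funext i
      rcases i with i | i <;> rfl
  right_inv y := by
    obtain ⟨⟨s, hs⟩, v, hv⟩ := y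
    have h1 : ![fun i => Sum.elim (s 0) v.1 (.inl i), fun i => Sum.elim (s 1) v.2 (.inl i)] = s := by
      funext i
      fin_cases i <;> rfl
    refine Sigma.ext (Subtype.ext h1) ?_
    refine (Subtype.heq_iff_coe_eq ?_).2 rfl
    intro x
    change trip ![fun i => Sum.elim (s 0) v.1 (.inl i), fun i => Sum.elim (s 1) v.2 (.inl i)] x = _ ↔ trip s x = _
    rw [h1]

theorem card_pairs_model [Finite F] {m : ℕ} (hm : 2 ≤ m) {a b c : F}
    (hab : ∀ s t : F, a * s ^ 2 + c * (s * t) + b * t ^ 2 = 0 → s = 0 ∧ t = 0) :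
    Nat.card {z : (Fin m ⊕ Fin m → F) × (Fin m ⊕ Fin m → F) // plusForm m F z.1 = a ∧ plusForm m F z.2 = b ∧
      polar (plusForm m F) z.1 z.2 = c} = H117.Rd.NN (Nat.card F) m := by
  have := Fintype.ofFinite F
  have hq : 1 < Nat.card F := Finite.one_lt_card
  rw [Nat.card_congr (pairEquiv hab)]
  have hfin : Finite {s : Fin 2 → (Fin m → F) // LinearIndependent F s} := inferInstance
  have := Fintype.ofFinite {s : Fin 2 → (Fin m → F) // LinearIndependent F s}
  rw [Nat.card_sigma]
  have h1 : ∀ s : {s : Fin 2 → (Fin m → F) // LinearIndependent F s}, Nat.card {v // trip s.1 v = (a, b, c)} =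
      Nat.card F ^ (2 * m - 3) := by
    intro s
    have h2 := card_trip s.2 (a, b, c)
    have h3 : Nat.card F ^ (2 * m) = Nat.card F ^ (2 * m - 3) * Nat.card F ^ 3 := by
      rw [← pow_add]
      congr 1
      omega
    rw [h3] at h2
    exact Nat.eq_of_mul_eq_mul_right (pow_pos (by omega) _) h2
  rw [Finset.sum_congr rfl fun s _ => h1 s, Finset.sum_const, Finset.card_univ, smul_eq_mul, ← Nat.card_eq_fintype_card,
    card_linearIndependent (K := F) (V := Fin m → F) (k := 2) (by rw [Module.finrank_fintype_fun_eq_card, Fintype.card_fin]; exact hm),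
    Module.finrank_fintype_fun_eq_card, Fintype.card_fin, Fin.prod_univ_two, ← Nat.card_eq_fintype_card]
  set q := Nat.card F
  simp only [Fin.val_zero, pow_zero, Fin.val_one, pow_one]
  obtain ⟨k, rfl⟩ := Nat.exists_eq_add_of_le hm
  have e1 : 2 * (2 + k) - 3 = 2 * k + 1 := by omega
  have e2 : 2 * (2 + k) - 2 = 2 * k + 2 := by omega
  have e3 : 2 + k - 1 = k + 1 := by omega
  have e4 : q ^ (2 + k) - q = q * (q ^ (k + 1) - 1) := by
    rw [Nat.mul_sub, mul_one, ← pow_succ']
    congr 2
    omega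
  rw [H117.Rd.NN, e1, e2, e3, e4]
  ring

end model

/-- **the number of the pairs** -/
theorem card_pairs {F V : Type*} [Field F] [Finite F] [AddCommGroup V] [Module F V] [FiniteDimensional F V] {Q : QuadraticForm F V}
    {m : ℕ} (hm : 2 ≤ m) (hQ : Nondeg Q) (hd : finrank F V = 2 * m) (hP : IsPlus Q) {a b c : F}
    (hab : ∀ s t : F, a * s ^ 2 + c * (s * t) + b * t ^ 2 = 0 → s = 0 ∧ t = 0) :
    Nat.card {z : V × V // Q z.1 = a ∧ Q z.2 = b ∧ polar Q z.1 z.2 = c} = H117.Rd.NN (Nat.card F) m := by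
  obtain ⟨e, he⟩ := exists_plus_equiv m Q hQ hd hP
  rw [← card_pairs_model hm hab]
  refine Nat.card_congr ((Equiv.prodCongr e.toEquiv e.toEquiv).subtypeEquiv fun z => ?_)
  change _ ↔ plusForm m F (e z.1) = a ∧ plusForm m F (e z.2) = b ∧ polar (plusForm m F) (e z.1) (e z.2) = c
  rw [he, he, polar_of_equiv e he]

end Cfsg.Agent.H499.Rd
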