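import Cfsg.Agent.H499.Rd.Geo
import Cfsg.Agent.H499.Rd.Pairs
import Cfsg.Agent.H826.RgD.Form

/-!
# S3691, residual case F-D+2, P3 (helper499): `Sit` from `Fac`, `ResP` and the frame `D2`

* `rhoY` : the action of `preG eT Y`
* `small`, `dvdNN`, `halfY` : the fields of `Sit`
* `sit_of_d2` : `Sit p f m Q (rhoY eT Y)`
-/

set_option autoImplicit false
set_option linter.unusedSectionVars false

namespace Cfsg.Agent.H499.Rd

open Module QuadraticMap Cfsg Cfsg.Geo Cfsg.Agent.LieClassical.OrthCore Cfsg.Agent.LieClassical.OrthTrans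
  Cfsg.Agent.ClassicalGeometry.OrthSemi Cfsg.Agent.H454.Reg Cfsg.Agent.H884.El Cfsg.Agent.H955 Cfsg.Agent.H449.Reg
  Cfsg.Agent.H964.Rg Cfsg.Agent.H826.Rg
open Cfsg.Agent.H386.Rg (Aniso D2)
open Cfsg.Agent.H117.Rd (Fr NN l1 l2 Sit)
open Cfsg.Agent.LieClassical.OrthFinite (glEquiv)
open scoped MatrixGroups Matrix

universe u v

variable {ι : Type} [Fintype ι] [DecidableEq ι] {F : Type v} [Field F] {Q : QuadraticForm F (ι → F)}
  {G : Type u} [Group G] {T X Y : Subgroup G} [T.Normal] {hG : Good Q} {eT : T ≃* POmega F (⇑Q)}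
  {hI : Ind (eP hG eT)} {P : Submodule F (ι → F)}

/-- the action of `preG eT Y` -/
noncomputable def rhoY (eT : T ≃* POmega F (⇑Q)) (Y : Subgroup G) : preG eT Y →* ((ι → F) ≃ₗ[F] (ι → F)) :=
  (glEquiv ι F).toMonoidHom.comp (preG eT Y).subtype

theorem rhoY_apply (g : preG eT Y) : rhoY eT Y g = glEquiv ι F g.1 := rfl

theorem rhoY_mem (g : preG eT Y) : rhoY eT Y g ∈ preE (eP hG eT) Y := mem_preE_iff.2 g.2

theorem rhoY_injective : Function.Injective (rhoY eT Y) := by
  intro a b hab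
  exact Subtype.ext ((glEquiv ι F).injective hab)

include hG in
theorem rhoY_iso (g : preG eT Y) (v : ι → F) : Q (rhoY eT Y g v) = Q v := preE_le_O (rhoY_mem (hG := hG) g) v

/-! ### conjugation by the semisimilitudes coming from `Y` -/

section conj

theorem conj_mem (hc : Subgroup.centralizer (T : Set G) = ⊥) {M : Gam Q} (hM : M ∈ Gh (eP hG eT) Y)
    {h : (ι → F) ≃ₗ[F] (ι → F)} (hh : h ∈ preE (eP hG eT) Y) : conjLin M h ∈ preE (eP hG eT) Y := by
  have hE := preE_le_E hh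
  have h1 := conjLin_mem_E M hE
  have h3 : lg ⟨conjLin M h, h1⟩ = M * lg ⟨h, hE⟩ * M⁻¹ := rfl
  refine (lg_mem_iff hc ⟨conjLin M h, h1⟩).1 ?_
  rw [h3]
  exact (Gh (eP hG eT) Y).mul_mem ((Gh (eP hG eT) Y).mul_mem hM ((lg_mem_iff hc ⟨h, hE⟩).2 hh)) ((Gh (eP hG eT) Y).inv_mem hM)

/-- conjugation by `M` -/
noncomputable def cjY (hc : Subgroup.centralizer (T : Set G) = ⊥) {M : Gam Q} (hM : M ∈ Gh (eP hG eT) Y) :
    preG eT Y →* preG eT Y where
  toFun g := ⟨(glEquiv ι F).symm (conjLin M (rhoY eT Y g)), mem_preE_iff'.1 (conj_mem (hG := hG) hc hM (rhoY_mem g))⟩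
  map_one' := by
    apply Subtype.ext
    change (glEquiv ι F).symm (conjLin M (rhoY eT Y 1)) = 1
    rw [map_one, conjLin_one, map_one]
  map_mul' a b := by
    apply Subtype.ext
    change (glEquiv ι F).symm (conjLin M (rhoY eT Y (a * b))) = (glEquiv ι F).symm _ * (glEquiv ι F).symm _
    rw [map_mul, conjLin_mul, map_mul]

theorem rhoY_cjY (hc : Subgroup.centralizer (T : Set G) = ⊥) {M : Gam Q} (hM : M ∈ Gh (eP hG eT) Y) (g : preG eT Y) :
    rhoY eT Y (cjY hc hM g) = conjLin M (rhoY eT Y g) := (glEquiv ι F).apply_symm_apply _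

theorem cjY_inv (hc : Subgroup.centralizer (T : Set G) = ⊥) {M : Gam Q} (hM : M ∈ Gh (eP hG eT) Y)
    (hM' : M⁻¹ ∈ Gh (eP hG eT) Y) (g : preG eT Y) : cjY hc hM' (cjY hc hM g) = g := by
  apply rhoY_injective
  rw [rhoY_cjY, rhoY_cjY, ← conjLin_mul_left, inv_mul_cancel, conjLin_one_left]

theorem cjY_inv' (hc : Subgroup.centralizer (T : Set G) = ⊥) {M : Gam Q} (hM : M ∈ Gh (eP hG eT) Y)
    (hM' : M⁻¹ ∈ Gh (eP hG eT) Y) (g : preG eT Y) : cjY hc hM (cjY hc hM' g) = g := by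
  apply rhoY_injective
  rw [rhoY_cjY, rhoY_cjY, ← conjLin_mul_left, mul_inv_cancel, conjLin_one_left]

/-- conjugation as an automorphism -/
noncomputable def cjA (hc : Subgroup.centralizer (T : Set G) = ⊥) {M : Gam Q} (hM : M ∈ Gh (eP hG eT) Y) :
    preG eT Y ≃* preG eT Y where
  toFun := cjY hc hM
  invFun := cjY hc ((Gh (eP hG eT) Y).inv_mem hM)
  left_inv g := cjY_inv hc hM _ g
  right_inv g := cjY_inv' hc hM _ g
  map_mul' := map_mul _

theorem rhoY_cjA (hc : Subgroup.centralizer (T : Set G) = ⊥) {M : Gam Q} (hM : M ∈ Gh (eP hG eT) Y) (g : preG eT Y) :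
    rhoY eT Y (cjA hc hM g) = conjLin M (rhoY eT Y g) := rhoY_cjY hc hM g

/-- the image of the fixed space of a characteristic subgroup -/
theorem img_fix (hc : Subgroup.centralizer (T : Set G) = ⊥) {A : Subgroup (preG eT Y)} (hA : A.Characteristic)
    {W : Submodule F (ι → F)} (hW : ∀ v, v ∈ W ↔ ∀ a ∈ A, rhoY eT Y a v = v) {M : Gam Q} (hM : M ∈ Gh (eP hG eT) Y) :
    img M W = W := by
  have key : ∀ {M : Gam Q}, M ∈ Gh (eP hG eT) Y → img M W ≤ W := by
    rintro M hM _ ⟨v, hv, rfl⟩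
    rw [hW]
    intro a ha
    obtain ⟨b, rfl⟩ := (cjA hc hM).surjective a
    have hb : b ∈ A := by
      have h1 := hA.fixed (cjA hc hM)
      rw [← h1]
      exact ha
    rw [rhoY_cjA, conjLin_apply', (hW v).1 hv b hb]
  refine le_antisymm (key hM) ?_
  have h1 := img_mono M (key ((Gh (eP hG eT) Y).inv_mem hM))
  rwa [← img_mul, mul_inv_cancel, img_one] at h1

theorem img_map (M : Gam Q) (h : (ι → F) ≃ₗ[F] (ι → F)) (H : Submodule F (ι → F)) :
    img M (H.map (h : (ι → F) →ₗ[F] (ι → F))) = (img M H).map (conjLin M h : (ι → F) →ₗ[F] (ι → F)) := by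
  ext w
  rw [mem_img, Submodule.mem_map]
  constructor
  · rintro ⟨_, ⟨v, hv, rfl⟩, rfl⟩
    exact ⟨M.1 v, ⟨v, hv, rfl⟩, conjLin_apply' M h v⟩
  · rintro ⟨_, ⟨v, hv, rfl⟩, rfl⟩
    exact ⟨h v, ⟨v, hv, rfl⟩, (conjLin_apply' M h v).symm⟩

theorem img_injective (M : Gam Q) : Function.Injective (img M) := by
  intro A B h
  have h1 := congrArg (img M⁻¹) h
  rwa [← img_mul, ← img_mul, inv_mul_cancel, img_one, img_one] at h1

/-- the stabilisers of `H₁` and `M H₁` have the same order -/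
theorem card_stab_eq (hc : Subgroup.centralizer (T : Set G) = ⊥) {M : Gam Q} (hM : M ∈ Gh (eP hG eT) Y)
    {H₁ H₂ : Submodule F (ι → F)} (h : img M H₁ = H₂) :
    Nat.card {g : preG eT Y // H₁.map (rhoY eT Y g : (ι → F) →ₗ[F] (ι → F)) = H₁} =
      Nat.card {g : preG eT Y // H₂.map (rhoY eT Y g : (ι → F) →ₗ[F] (ι → F)) = H₂} := by
  refine Nat.card_congr ((cjA hc hM).toEquiv.subtypeEquiv fun g => ?_)
  change _ ↔ H₂.map (rhoY eT Y (cjA hc hM g) : (ι → F) →ₗ[F] (ι → F)) = H₂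
  rw [rhoY_cjA, ← h, ← img_map]
  exact (img_injective M).eq_iff.symm

end conj

/-! ### transitivity -/

section trans

variable [Finite F] [Finite G]

theorem img_perp (M : Gam Q) (S : Submodule F (ι → F)) : img M (perp Q S) = perp Q (img M S) := by
  obtain ⟨σ, c, hS⟩ := M.2
  ext w
  constructor
  · rintro ⟨v, hv, rfl⟩ _ ⟨s, hs, rfl⟩
    rw [hS.polar, hv s hs, map_zero, mul_zero]
  · intro hw
    refine ⟨M.1.symm w, ?_, M.1.apply_symm_apply w⟩
    intro s hs
    have h1 := hw (M.1 s) ⟨s, hs, rfl⟩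
    have h2 := hS.polar s (M.1.symm w)
    rw [M.1.apply_symm_apply, h1] at h2
    exact (map_eq_zero σ).1 ((mul_eq_zero.1 h2.symm).resolve_left hS.ne)

/-- a basis of `P` with its Gram matrix -/
theorem exists_basis (hP : ResP hI X P) : ∃ u w, P = Submodule.span F {u, w} ∧ Aniso Q u w := by
  obtain ⟨b⟩ : Nonempty (Basis (Fin 2) F P) := ⟨Module.finBasisOfFinrankEq F P hP.rank⟩
  refine ⟨b 0, b 1, ?_, ?_⟩
  · have h1 := b.span_eq
    have h2 : Set.range b = {b 0, b 1} := by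
      ext x
      constructor
      · rintro ⟨i, rfl⟩
        fin_cases i
        · exact Or.inl rfl
        · exact Or.inr rfl
      · rintro (rfl | rfl)
        · exact ⟨0, rfl⟩
        · exact ⟨1, rfl⟩
    rw [h2] at h1
    have h3 := congrArg (Submodule.map P.subtype) h1
    rw [Submodule.map_span, Set.image_pair, Submodule.map_top, Submodule.range_subtype] at h3
    exact h3.symm
  · intro s t hst
    have h1 := hP.aniso _ (P.add_mem (P.smul_mem s (b 0).2) (P.smul_mem t (b 1).2)) hst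
    have h3 : s • b 0 + t • b 1 = 0 := Subtype.ext h1
    exact LinearIndependent.pair_iff.1 (show LinearIndependent F ![b 0, b 1] by
      have := b.linearIndependent
      have e : (⇑b : Fin 2 → P) = ![b 0, b 1] := by
        funext i; fin_cases i <;> rfl
      rwa [e] at this) s t h3

/-- `Y` is transitive on the planes isometric to `P` -/
theorem exists_gh_plane (hfac : Fac T X Y) (hn : 7 ≤ Fintype.card ι) (hP : ResP hI X P) {u w u' w' : ι → F}
    (hPs : P = Submodule.span F {u, w}) (hA : Aniso Q u w) (h1 : Q u' = Q u) (h2 : Q w' = Q w)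
    (h3 : polar Q u' w' = polar Q u w) : ∃ M ∈ Gh (eP hG eT) Y, img M P = Submodule.span F {u', w'} := by
  obtain ⟨g, hg, hgu, hgw⟩ := H826.RgD.trans_aniso (Q := Q) hG.nondeg (by rw [Module.finrank_fintype_fun_eq_card]; omega) hA h1.symm
    h2.symm h3.symm
  obtain ⟨a, ha, b, hb, hab⟩ := hfac.symm.exists_mul (((eP hG eT).symm (QuotientGroup.mk ⟨g, hg⟩) : T) : G)
  have h4 : act hI (((eP hG eT).symm (QuotientGroup.mk ⟨g, hg⟩) : T) : G) P = P.map (g : (ι → F) →ₗ[F] (ι → F)) :=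
    act_T hG hI (x := ⟨g, hg⟩) (by rw [MulEquiv.apply_symm_apply]) _
  rw [← hab, act_mul hG, hP.fix b hb] at h4
  obtain ⟨M, hM⟩ := hI a
  rw [act_of hG hI hM] at h4
  refine ⟨M, ⟨a, ha, hM.symm⟩, ?_⟩
  rw [h4, hPs, Submodule.map_span, Set.image_pair]
  change Submodule.span F {g u, g w} = _
  rw [hgu, hgw]

/-- `Y` is transitive on the subspaces of codimension two of `W` -/
theorem trans_codim (hfac : Fac T X Y) (hn : 7 ≤ Fintype.card ι) (hP : ResP hI X P) {m : ℕ} (hι : Fintype.card ι = 2 * m)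
    {W : Submodule F (ι → F)} (hWQ : ∀ w ∈ W, Q w = 0) (hWd : finrank F W = m) (hfix : ∀ M ∈ Gh (eP hG eT) Y, img M W = W)
    {S S' : Submodule F (ι → F)} (hS : S ≤ W) (hS' : S' ≤ W) (hd : finrank F S + 2 = m) (hd' : finrank F S' + 2 = m) :
    ∃ M ∈ Gh (eP hG eT) Y, img M S = S' := by
  obtain ⟨u, w, hPs, hA⟩ := exists_basis hP
  have hdim : finrank F (ι → F) = 2 * m := by rw [Module.finrank_fintype_fun_eq_card, hι]
  -- every subspace of codimension two is `img M (W ⊓ P^⊥)`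
  have key : ∀ S ≤ W, finrank F S + 2 = m → ∃ M ∈ Gh (eP hG eT) Y, img M (W ⊓ perp Q P) = S := by
    intro S hS hd
    obtain ⟨u', w', h1, h2, h3, h4⟩ := exists_pair hG.nondeg hdim hWQ hWd hS hd (Q u) (Q w) (polar Q u w)
    obtain ⟨M, hM, hMP⟩ := exists_gh_plane hfac hn hP hPs hA h1 h2 h3
    refine ⟨M, hM, ?_⟩
    rw [← H826.RgD.img_inf, img_perp, hfix M hM, hMP]
    ext v
    constructor
    · rintro ⟨hv, hv'⟩
      exact (h4 v hv).2 ⟨hv' u' (Submodule.subset_span (by simp)), hv' w' (Submodule.subset_span (by simp))⟩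
    · intro hv
      refine ⟨hS hv, ?_⟩
      intro x hx
      obtain ⟨s, t, rfl⟩ := Submodule.mem_span_pair.1 hx
      obtain ⟨e1, e2⟩ := (h4 v (hS hv)).1 hv
      rw [polar_add_left, polar_smul_left, polar_smul_left, e1, e2]
      simp
  obtain ⟨M, hM, hMS⟩ := key S hS hd
  obtain ⟨M', hM', hMS'⟩ := key S' hS' hd'
  refine ⟨M' * M⁻¹, (Gh (eP hG eT) Y).mul_mem hM' ((Gh (eP hG eT) Y).inv_mem hM), ?_⟩
  rw [← hMS, ← img_mul, inv_mul_cancel_right, hMS']

/-- **the field `half`** -/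
theorem halfY (hfac : Fac T X Y) (hP : ResP hI X P) {m : ℕ} (hm : 5 ≤ m) (hι : Fintype.card ι = 2 * m)
    {A : Subgroup (preG eT Y)} (hA : A.Characteristic) {W : Submodule F (ι → F)}
    (hW : ∀ v, v ∈ W ↔ ∀ a ∈ A, rhoY eT Y a v = v) (hWd : finrank F W = m) (hWQ : ∀ w ∈ W, Q w = 0)
    {H₁ H₂ : Submodule F (ι → F)} (h1 : H₁ ≤ W) (h2 : H₂ ≤ W) (hd1 : finrank F H₁ = m - 1) (hd2 : finrank F H₂ = m - 1) :
    Nat.card {g : preG eT Y // H₁.map (rhoY eT Y g : (ι → F) →ₗ[F] (ι → F)) = H₁} =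
      Nat.card {g : preG eT Y // H₂.map (rhoY eT Y g : (ι → F) →ₗ[F] (ι → F)) = H₂} := by
  have hfix : ∀ M ∈ Gh (eP hG eT) Y, img M W = W := fun M hM => img_fix hfac.cent hA hW hM
  obtain ⟨M, hM, hMH⟩ := trans_hyper (m := m) (by omega) (Gh (eP hG eT) Y) W hfix hWd
    (fun S hS S' hS' hd hd' => trans_codim hfac (by omega) hP hι hWQ hWd hfix hS hS' hd hd') h1 h2 (by omega) (by omega)
  exact card_stab_eq hfac.cent hM hMH

/-- **the field `small`** -/
theorem smallY (hfac : Fac T X Y) (hn : 7 ≤ Fintype.card ι) (hP : ResP hI X P) {g : preG eT Y} (hg : g ≠ 1)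
    {U : Submodule F (ι → F)} (hU : ∀ u ∈ U, rhoY eT Y g u = u) (hUn : ∀ u ∈ U, (∀ w ∈ U, polar Q u w = 0) → u = 0) :
    finrank F U ≤ 2 := by
  by_contra hcon
  obtain ⟨u, w, hA⟩ := exists_plane (nondeg_res_iff.2 hUn) (by omega)
  refine H826.RgD.fixD2 hn hfac hP (rhoY_mem g) (fun h => hg (rhoY_injective (h.trans (map_one _).symm))) (u := u) (w := w) ?_
    (hU u u.2) (hU w w.2)
  intro a b hab
  exact hA a b hab

/-- **the field `dvd`** -/
theorem dvdNN (hfac : Fac T X Y) (hP : ResP hI X P) {m : ℕ} (hm : 5 ≤ m) (hι : Fintype.card ι = 2 * m) (hpl : IsPlus Q) :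
    Nat.card (preG eT Y) ∣ NN (Nat.card F) m := by
  obtain ⟨u, w, -, hA⟩ := exists_basis hP
  have hab := aniso_iff.1 hA
  rw [← card_pairs (Q := Q) (m := m) (by omega) hG.nondeg (by rw [Module.finrank_fintype_fun_eq_card, hι]) hpl hab]
  set Ω := {z : (ι → F) × (ι → F) // Q z.1 = Q u ∧ Q z.2 = Q w ∧ polar Q z.1 z.2 = polar Q u w} with hΩ
  let _ : MulAction (preG eT Y) Ω :=
    { smul := fun g z => ⟨(rhoY eT Y g z.1.1, rhoY eT Y g z.1.2), by
        have hO : rhoY eT Y g ∈ O Q := preE_le_O (rhoY_mem (hG := hG) g)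
        refine ⟨?_, ?_, ?_⟩
        · change Q (rhoY eT Y g z.1.1) = _
          rw [mem_O.1 hO]; exact z.2.1
        · change Q (rhoY eT Y g z.1.2) = _
          rw [mem_O.1 hO]; exact z.2.2.1
        · change polar Q (rhoY eT Y g z.1.1) (rhoY eT Y g z.1.2) = _
          rw [polar_map hO]; exact z.2.2.2⟩
      one_smul := fun z => by
        apply Subtype.ext
        change (rhoY eT Y 1 z.1.1, rhoY eT Y 1 z.1.2) = z.1
        rw [map_one]
        rfl
      mul_smul := fun a b z => by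
        apply Subtype.ext
        change (rhoY eT Y (a * b) z.1.1, rhoY eT Y (a * b) z.1.2) = _
        rw [map_mul]
        rfl }
  have hst : ∀ z : Ω, MulAction.stabilizer (preG eT Y) z = ⊥ := by
    intro z
    rw [eq_bot_iff]
    intro g hg
    rw [MulAction.mem_stabilizer_iff] at hg
    have h1 : (rhoY eT Y g z.1.1, rhoY eT Y g z.1.2) = z.1 := congrArg Subtype.val hg
    rw [Prod.ext_iff] at h1
    rw [Subgroup.mem_bot]
    by_contra hg1
    refine H826.RgD.fixD2 (by omega) hfac hP (rhoY_mem g) (fun h => hg1 (rhoY_injective (h.trans (map_one _).symm)))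
      (u := z.1.1) (w := z.1.2) ?_ h1.1 h1.2
    rw [aniso_iff, z.2.1, z.2.2.1, z.2.2.2]
    exact hab
  have h1 := MulAction.selfEquivSigmaOrbitsQuotientStabilizer (preG eT Y) Ω
  have h2 := Nat.card_congr h1
  have hfin : Finite Ω := inferInstance
  have := Fintype.ofFinite (Quotient (MulAction.orbitRel (preG eT Y) Ω))
  rw [h2, Nat.card_sigma]
  refine Finset.dvd_sum fun ω _ => ?_
  rw [hst, Nat.card_congr (QuotientGroup.quotientBot (G := preG eT Y)).toEquiv]

end trans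

/-- **`Sit`**, from the numbers -/
theorem sit_of [Fintype F] [Finite G] (hfac : Fac T X Y) {p f m : ℕ} (hfr : Fr p f m) (hF : Fintype.card F = p ^ f)
    (hι : Fintype.card ι = 2 * m) (hpl : IsPlus Q) (hP : ResP hI X P)
    (hval : f * (2 * m - 2) ≤ (Nat.card (preE (eP hG eT) Y)).factorization p +
      (if p = 2 then (4 * f).factorization p else f.factorization p))
    (hprim : ∀ r : ℕ, r.Prime → (orderOf (p : ZMod r) = f * m ∨ orderOf (p : ZMod r) = f * (m - 1)) →
      r ∣ Nat.card (preE (eP hG eT) Y)) : Sit p f m Q (rhoY eT Y) where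
  fr := hfr
  card := hF
  dim := by rw [Module.finrank_fintype_fun_eq_card, hι]
  nondeg := hG.nondeg
  inj := rhoY_injective
  iso := rhoY_iso (hG := hG)
  small := fun g hg U hU hUn => smallY hfac (by have := hfr.five; omega) hP hg hU hUn
  dvd := by
    rw [← hF, ← Nat.card_eq_fintype_card]
    exact dvdNN hfac hP hfr.five hι hpl
  val := by
    rw [card_preE] at hval
    refine hval.trans (Nat.add_le_add_left ?_ _)
    have hf1 := hfr.f1
    rw [l1]
    split_ifs with h2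
    · subst h2
      rw [show 4 * f = 2 ^ 2 * f by ring, Nat.factorization_mul (by norm_num) (by omega), Nat.Prime.factorization_pow Nat.prime_two]
      simp
    · exact le_rfl
  prim := fun r hr ho => by
    have h1 := hprim r hr ho
    rwa [card_preE] at h1
  half := fun A hA W hW hWd hWQ H₁ h1 H₂ h2 hd1 hd2 => halfY hfac hP hfr.five hι hA hW hWd hWQ h1 h2 hd1 hd2

/-- **(P3)**, from the frame `D2` -/
theorem sit_of_d2 [Fintype F] [Finite G] (hfac : Fac T X Y) {p f m : ℕ} (hfr : Fr p f m) (hF : Fintype.card F = p ^ f)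
    (hι : Fintype.card ι = 2 * m) (hpl : IsPlus Q) (hP : ResP hI X P) (hD : D2 Q p f m (preE (eP hG eT) Y)) :
    Sit p f m Q (rhoY eT Y) :=
  sit_of hfac hfr hF hι hpl hP hD.card_p hD.rdvd

end Cfsg.Agent.H499.Rd
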