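import Cfsg.Agent.H117.Rd.Str

/-!
# S3691, residual case F-D+2 (helper499): the `p`-subgroups normalised by an element of order `r`

`h : Sit p f m Q ρ`, `A` a nontrivial `p`-subgroup of `K` normalised by `y` of order `r`, `W = Fx ρ A`:
* `PS` : `finrank W = m`, `Q = 0` on `W`, `W = perp Q W`, `A` trivial on `V / W`
* `ps` : (B0);  `card_ps` : (B2) `|A| = p ^ (f m)` for odd `m`;  `exp_mod` : `|A| = p ^ a`, `|C_A(w)| = p ^ c`, `f k ∣ a - c`
* `alt_self`, `alt_comm`, `alt_tt` : the alternating form `polar (ρ a v - v) v'` (for (B1) in `Par2`)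
-/

set_option autoImplicit false
set_option linter.unusedSectionVars false

namespace Cfsg.Agent.H499.Rd

open Module QuadraticMap Cfsg.Agent.LieClassical.OrthCore Cfsg.Agent.LieClassical.OrthTrans Cfsg.Agent.H955
open Cfsg.Agent.H117.Rd

variable {F V K : Type*} [Field F] [Fintype F] [AddCommGroup V] [Module F V] [FiniteDimensional F V] [Group K] [Finite K]
  {ρ : K →* (V ≃ₗ[F] V)} {Q : QuadraticForm F V} {p f m r s : ℕ} {A : Subgroup K} {y z : K}

/-- the properties of `W = Fx ρ A` -/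
structure PS (m : ℕ) (Q : QuadraticForm F V) (ρ : K →* (V ≃ₗ[F] V)) (A : Subgroup K) : Prop where
  rank : finrank F (Fx ρ A) = m
  sing : ∀ w ∈ Fx ρ A, Q w = 0
  perp_eq : perp Q (Fx ρ A) = Fx ρ A
  triv : ∀ a ∈ A, ∀ v, ρ a v - v ∈ Fx ρ A

/-- the dimensions of the `y`-invariant subspaces -/
theorem dvd_of_inv (h : Sit p f m Q ρ) (hr : Pr p f m r m) (hy : orderOf y = r) {U : Submodule F V}
    (hU : ∀ u ∈ U, ρ y u ∈ U) : m ∣ finrank F U := by
  have hm := h.fr.five
  have hinv : ∀ a ∈ Subgroup.zpowers y, ∀ u ∈ U, ρ a u ∈ U := by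
    have hfin : Finite U := fin_sub U
    intro a ha
    have hf : IsOfFinOrder y := isOfFinOrder_of_finite y
    obtain ⟨n, rfl⟩ := hf.mem_powers_iff_mem_zpowers.2 ha
    change ∀ u ∈ U, ρ (y ^ n) u ∈ U
    clear ha
    induction n with
    | zero =>
      intro u hu
      rw [pow_zero, map_one]
      exact hu
    | succ n ih =>
      intro u hu
      rw [pow_succ, rho_mul]
      exact ih _ (hU u hu)
  have h2 := dim_dvd (ρ := ρ) h.card h.fr.f1 hr.prime hr.ord (by omega) (isPGroup_zpowers hr.prime hy) hinv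
  rwa [h.fpf hr (isPGroup_zpowers hr.prime hy) (zpowers_ne_bot hr.prime hy), inf_bot_eq, finrank_bot, Nat.sub_zero] at h2

/-- **(B0)** -/
theorem ps (h : Sit p f m Q ρ) (hr : Pr p f m r m) (hA : IsPGroup p A) (hA1 : A ≠ ⊥) (hy : orderOf y = r)
    (hyA : y ∈ Subgroup.normalizer (A : Set K)) : PS m Q ρ A := by
  have hm := h.fr.five
  have hWy : ∀ u ∈ Fx ρ A, ρ y u ∈ Fx ρ A := fun u hu => Fx_inv hyA hu
  have hd := dvd_of_inv h hr hy hWy
  obtain ⟨g, hg, hg1⟩ : ∃ g ∈ A, g ≠ 1 := by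
    by_contra hcon
    push Not at hcon
    exact hA1 ((Subgroup.eq_bot_iff_forall A).2 hcon)
  have hle : finrank F (Fx ρ A) ≤ m + 1 := h.fix_le hg1 fun v hv => hv g hg
  have hne : Fx ρ A ≠ ⊥ := by
    have h1 := exists_fix (ρ := ρ) h.fr.prime h.card h.fr.f1 hA (U := ⊤) (fun _ _ _ _ => trivial) (by
      intro h0
      have h2 : finrank F (⊤ : Submodule F V) = 0 := by rw [h0, finrank_bot]
      rw [finrank_top, h.dim] at h2
      omega)
    rwa [top_inf_eq] at h1
  have hpos : 0 < finrank F (Fx ρ A) := by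
    rw [Module.finrank_pos_iff]
    exact Submodule.nontrivial_iff_ne_bot.2 hne
  have hrank : finrank F (Fx ρ A) = m := by
    obtain ⟨c, hc⟩ := hd
    rw [hc] at hpos hle ⊢
    have hc1 : 1 ≤ c := by
      rcases Nat.eq_zero_or_pos c with h0 | h0
      · rw [h0, mul_zero] at hpos; omega
      · exact h0
    have hc2 : c < 2 := by
      by_contra hcon
      have := Nat.mul_le_mul_left m (show 2 ≤ c by omega)
      omega
    have : c = 1 := by omega
    rw [this, mul_one]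
  -- isotropic
  have hperpy : ∀ u ∈ perp Q (Fx ρ A), ρ y u ∈ perp Q (Fx ρ A) := by
    intro u hu
    exact perp_rho h.iso (fun x hx => Fx_inv (inv_mem hyA) hx) hu
  have hd2 := dvd_of_inv h hr hy (U := Fx ρ A ⊓ perp Q (Fx ρ A)) (fun u hu => ⟨hWy u hu.1, hperpy u hu.2⟩)
  have hle2 : finrank F (Fx ρ A ⊓ perp Q (Fx ρ A) : Submodule F V) ≤ finrank F (Fx ρ A) := Submodule.finrank_mono inf_le_left
  have hinf : Fx ρ A ⊓ perp Q (Fx ρ A) = Fx ρ A := by
    by_contra hcon
    have h1 : finrank F (Fx ρ A ⊓ perp Q (Fx ρ A) : Submodule F V) ≠ m := fun h1 =>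
      hcon (Submodule.eq_of_le_of_finrank_eq inf_le_left (by rw [h1, hrank]))
    have h2 : finrank F (Fx ρ A ⊓ perp Q (Fx ρ A) : Submodule F V) = 0 := Nat.eq_zero_of_dvd_of_lt hd2 (by omega)
    have h3 : Fx ρ A ⊓ perp Q (Fx ρ A) = ⊥ := Submodule.finrank_eq_zero.1 h2
    have h4 := h.small g hg1 (Fx ρ A) (fun u hu => hu g hg) (fun u hu hw => by
      have h5 : u ∈ Fx ρ A ⊓ perp Q (Fx ρ A) := ⟨hu, mem_perp'.2 hw⟩
      rw [h3] at h5
      exact (Submodule.mem_bot F).1 h5)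
    omega
  have hWp : Fx ρ A ≤ perp Q (Fx ρ A) := by
    rw [← hinf]
    exact (inf_le_right).trans (by rw [hinf])
  have hperp : perp Q (Fx ρ A) = Fx ρ A := by
    refine (Submodule.eq_of_le_of_finrank_eq hWp ?_).symm
    have h1 := finrank_add_perp h.nondeg (Fx ρ A)
    rw [h.dim, hrank] at h1
    omega
  have hpol : ∀ a ∈ Fx ρ A, ∀ b ∈ Fx ρ A, polar Q a b = 0 := fun a ha b hb => hWp hb a ha
  -- singular
  let W0 : Submodule F V :=
    { carrier := {w | w ∈ Fx ρ A ∧ Q w = 0}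
      add_mem' := by
        rintro a b ⟨ha, ha'⟩ ⟨hb, hb'⟩
        exact ⟨(Fx ρ A).add_mem ha hb, by rw [Q_add, ha', hb', hpol a ha b hb]; simp⟩
      zero_mem' := ⟨(Fx ρ A).zero_mem, QuadraticMap.map_zero Q⟩
      smul_mem' := by
        rintro c a ⟨ha, ha'⟩
        exact ⟨(Fx ρ A).smul_mem c ha, by rw [QuadraticMap.map_smul, ha', smul_zero]⟩ }
  have hW0le : W0 ≤ Fx ρ A := fun w hw => hw.1
  have hd3 := dvd_of_inv h hr hy (U := W0) (fun u hu => ⟨hWy u hu.1, by rw [h.iso]; exact hu.2⟩)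
  have hW0 : W0 = Fx ρ A := by
    by_contra hcon
    have h1 : finrank F W0 ≠ m := fun h1 => hcon (Submodule.eq_of_le_of_finrank_eq hW0le (by rw [h1, hrank]))
    have h2 : finrank F W0 ≤ finrank F (Fx ρ A) := Submodule.finrank_mono hW0le
    have h3 : finrank F W0 = 0 := Nat.eq_zero_of_dvd_of_lt hd3 (by omega)
    have h4 : W0 = ⊥ := Submodule.finrank_eq_zero.1 h3
    obtain ⟨x, hx0, hx⟩ := exists_singular (res Q (Fx ρ A)) (by omega)
    have h5 : (x : V) ∈ W0 := ⟨x.2, hx⟩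
    rw [h4] at h5
    exact hx0 (Subtype.ext ((Submodule.mem_bot F).1 h5))
  refine ⟨hrank, fun w hw => ?_, hperp, fun a ha v => ?_⟩
  · rw [← hW0] at hw
    exact hw.2
  · rw [← hperp, mem_perp]
    intro w hw
    have h1 : polar Q w (ρ a v) = polar Q w v := by
      have h2 := polar_rho h.iso a w v
      rwa [hw a ha] at h2
    rw [polar_sub_right, h1, sub_self]

namespace PS

variable (hp : PS m Q ρ A)

include hp

/-- `a ↦ ρ a v - v` is additive -/
theorem delta_mul {a b : K} (ha : a ∈ A) (hb : b ∈ A) (v : V) : ρ (a * b) v - v = (ρ a v - v) + (ρ b v - v) := by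
  have h1 : ρ a (ρ b v - v) = ρ b v - v := hp.triv b hb v a ha
  rw [map_sub] at h1
  rw [rho_mul, ← sub_add_sub_cancel (ρ a (ρ b v)) (ρ a v) v, h1]
  abel

theorem delta_inv {a : K} (ha : a ∈ A) (v : V) : ρ a⁻¹ v - v = - (ρ a v - v) := by
  have h1 := hp.delta_mul (A.inv_mem ha) ha v
  rw [inv_mul_cancel, map_one] at h1
  have h2 : ((1 : V ≃ₗ[F] V) v - v) = 0 := sub_self v
  rw [h2] at h1
  exact eq_neg_of_add_eq_zero_left h1.symm

end PS

/-- `|A| = p ^ a` -/
theorem card_mod_cent {l : ℕ} (hl : l.Prime) {w : K} (hw : orderOf w = l) (hwA : w ∈ Subgroup.normalizer (A : Set K)) :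
    Nat.card A ≡ Nat.card (A ⊓ Subgroup.centralizer {w} : Subgroup K) [MOD l] := by
  have := Fact.mk hl
  have hn : ∀ g ∈ Subgroup.zpowers w, ∀ a : K, a ∈ A ↔ g * a * g⁻¹ ∈ A := fun g hg a =>
    Subgroup.mem_normalizer_iff.1 ((Subgroup.zpowers_le.2 hwA) hg) a
  let _ : MulAction (Subgroup.zpowers w) A :=
    { smul := fun g a => ⟨(g : K) * a * (g : K)⁻¹, (hn g g.2 a).1 a.2⟩
      one_smul := fun a => Subtype.ext (by
        change (1 : K) * a * (1 : K)⁻¹ = a
        rw [one_mul, inv_one, mul_one])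
      mul_smul := fun g k a => Subtype.ext (by
        change (g * k : K) * a * (g * k : K)⁻¹ = g * (k * a * (k : K)⁻¹) * (g : K)⁻¹
        group) }
  have h1 := (isPGroup_zpowers hl hw).card_modEq_card_fixedPoints (α := A)
  have h2 : Nat.card (MulAction.fixedPoints (Subgroup.zpowers w) A) = Nat.card (A ⊓ Subgroup.centralizer {w} : Subgroup K) := by
    refine Nat.card_congr ⟨fun u => ⟨u.1, u.1.2, ?_⟩, fun u => ⟨⟨u.1, u.2.1⟩, ?_⟩, fun _ => rfl, fun _ => rfl⟩
    · have h3 : w * (u.1 : K) * w⁻¹ = u.1 := congrArg Subtype.val (u.2 ⟨w, Subgroup.mem_zpowers w⟩)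
      change (u.1 : K) ∈ Subgroup.centralizer {w}
      rw [Subgroup.mem_centralizer_singleton_iff]
      exact (mul_inv_eq_iff_eq_mul.1 h3).symm
    · rintro ⟨g, hg⟩
      have h3 : (u : K) * w = w * u := by
        have := u.2.2
        change (u : K) ∈ Subgroup.centralizer {w} at this
        rwa [Subgroup.mem_centralizer_singleton_iff] at this
      obtain ⟨i, rfl⟩ := Subgroup.mem_zpowers_iff.1 hg
      apply Subtype.ext
      change w ^ i * (u : K) * (w ^ i)⁻¹ = u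
      have h4 : Commute (u : K) (w ^ i) := (show Commute (u : K) w from h3).zpow_right i
      rw [← h4.eq, mul_inv_cancel_right]
  rw [h2] at h1
  exact h1

theorem card_le_of_sit (h : Sit p f m Q ρ) {a : ℕ} (ha : p ^ a ∣ Nat.card K) : a ≤ f * (2 * m - 2) := by
  have hm := h.fr.five
  have hf := h.fr.f1
  have h1 := ha.trans h.dvd
  rw [NN, mul_assoc] at h1
  have hcop : Nat.Coprime (p ^ a) (((p ^ f) ^ m - 1) * ((p ^ f) ^ (m - 1) - 1)) := by
    apply Nat.Coprime.pow_left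
    rw [h.fr.prime.coprime_iff_not_dvd, h.fr.prime.dvd_mul]
    have key : ∀ k, 0 < k → ¬ p ∣ (p ^ f) ^ k - 1 := by
      intro k hk hd
      have h2 : p ∣ (p ^ f) ^ k := dvd_pow (dvd_pow_self p (by omega)) (by omega)
      have h3 : 1 ≤ (p ^ f) ^ k := Nat.one_le_pow _ _ (pow_pos h.fr.prime.pos _)
      have h4 := (Nat.dvd_sub h2 hd)
      rw [Nat.sub_sub_self h3] at h4
      exact h.fr.prime.one_lt.ne' (Nat.dvd_one.1 h4)
    rintro (h2 | h2)
    · exact key m (by omega) h2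
    · exact key (m - 1) (by omega) h2
  have h2 := hcop.dvd_of_dvd_mul_right h1
  rw [← pow_mul] at h2
  exact (Nat.pow_dvd_pow_iff_le_right h.fr.prime.one_lt).1 h2

/-- the exponent of `|A|` modulo `k` -/
theorem exp_mod (h : Sit p f m Q ρ) {l k : ℕ} (hl : Pr p f m l k) (hA : IsPGroup p A) {w : K} (hw : orderOf w = l)
    (hwA : w ∈ Subgroup.normalizer (A : Set K)) : ∃ a c : ℕ, Nat.card A = p ^ a ∧
      Nat.card (A ⊓ Subgroup.centralizer {w} : Subgroup K) = p ^ c ∧ c ≤ a ∧ f * k ∣ a - c ∧ a ≤ f * (2 * m - 2) := by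
  have hpF := Fact.mk h.fr.prime
  obtain ⟨a, ha⟩ := IsPGroup.iff_card.1 hA
  obtain ⟨c, hc⟩ := IsPGroup.iff_card.1 (hA.to_le (inf_le_left : A ⊓ Subgroup.centralizer {w} ≤ A))
  have hca : c ≤ a := by
    have h1 := Subgroup.card_dvd_of_le (inf_le_left : A ⊓ Subgroup.centralizer {w} ≤ A)
    rw [ha, hc] at h1
    exact (Nat.pow_dvd_pow_iff_le_right h.fr.prime.one_lt).1 h1
  refine ⟨a, c, ha, hc, hca, ?_, card_le_of_sit h (by rw [← ha]; exact Subgroup.card_subgroup_dvd_card A)⟩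
  have h1 := card_mod_cent hl.prime hw hwA
  rw [ha, hc] at h1
  exact pow_mod hl.prime hl.ord (Nat.mul_pos h.fr.f1 (by have := hl.k_ge h.fr; omega)) hca h1

/-- **no `p`-elements commute** with `w` (`k` odd) -/
theorem cent_eq_bot (h : Sit p f m Q ρ) {l k : ℕ} (hl : Pr p f m l k) (hk : Odd k) (hA : IsPGroup p A) {w : K} (hw : orderOf w = l) :
    A ⊓ Subgroup.centralizer {w} = ⊥ := by
  rw [Subgroup.eq_bot_iff_forall]
  rintro a ⟨ha, hw'⟩
  have h1 : a * w = w * a := by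
    change a ∈ Subgroup.centralizer {w} at hw'
    rwa [Subgroup.mem_centralizer_singleton_iff] at hw'
  refine h.p_comm hl hk hw h1 ?_
  obtain ⟨j, hj⟩ := hA ⟨a, ha⟩
  exact ⟨j, congrArg Subtype.val hj⟩

/-- **(B2)** -/
theorem card_ps (h : Sit p f m Q ρ) (hr : Pr p f m r m) (hodd : Odd m) (hA : IsPGroup p A) (hA1 : A ≠ ⊥) (hy : orderOf y = r)
    (hyA : y ∈ Subgroup.normalizer (A : Set K)) : Nat.card A = p ^ (f * m) := by
  obtain ⟨a, c, ha, hc, hca, hd, hle⟩ := exp_mod h hr hA hy hyA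
  have hm := h.fr.five
  have hf := h.fr.f1
  rw [cent_eq_bot h hr hodd hA hy, Subgroup.card_bot] at hc
  have hc0 : c = 0 := by
    by_contra h0
    have := Nat.one_lt_pow h0 h.fr.prime.one_lt
    omega
  rw [hc0, Nat.sub_zero] at hd
  obtain ⟨k, hk⟩ := hd
  have hk1 : k ≠ 0 := by
    rintro rfl
    rw [mul_zero] at hk
    rw [hk, pow_zero] at ha
    exact hA1 (Subgroup.card_eq_one.1 ha)
  have hk2 : k < 2 := by
    by_contra hcon
    have h1 : f * m * 2 ≤ a := by rw [hk]; exact Nat.mul_le_mul_left _ (by omega)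
    have h2 : f * (2 * m - 2) + 2 * f = f * m * 2 := by
      have : f * m * 2 = f * (2 * m) := by ring
      rw [this, ← mul_comm f 2, ← mul_add]
      congr 1
      omega
    omega
  have hk3 : k = 1 := by omega
  rw [ha, hk, hk3, mul_one]

section cent

/-- `β (v, v') = polar (ρ a v - v) v'` is alternating -/
theorem alt_self (h : Sit p f m Q ρ) (hp : PS m Q ρ A) {a : K} (ha : a ∈ A) (v : V) : polar Q (ρ a v - v) v = 0 := by
  have h1 : Q (ρ a v) = Q v := h.iso a v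
  have h2 : Q ((ρ a v - v) + v) = Q (ρ a v - v) + Q v + polar Q (ρ a v - v) v := Q_add _ _
  rw [sub_add_cancel, h1, hp.sing _ (hp.triv a ha v), zero_add] at h2
  linear_combination -h2

theorem alt_comm (h : Sit p f m Q ρ) (hp : PS m Q ρ A) {a : K} (ha : a ∈ A) (v w : V) :
    polar Q (ρ a v - v) w = - polar Q (ρ a w - w) v := by
  have h1 := alt_self h hp ha (v + w)
  have h2 : ρ a (v + w) - (v + w) = (ρ a v - v) + (ρ a w - w) := by rw [map_add]; abel
  rw [h2, polar_add_left, polar_add_right, polar_add_right, alt_self h hp ha v, alt_self h hp ha w] at h1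
  linear_combination h1

/-- `t = y + y⁻¹` -/
def tt (ρ : K →* (V ≃ₗ[F] V)) (y : K) : V →ₗ[F] V := (ρ y : V →ₗ[F] V) + (ρ y⁻¹ : V →ₗ[F] V)

theorem tt_apply (v : V) : tt ρ y v = ρ y v + ρ y⁻¹ v := rfl

theorem alt_y (h : Sit p f m Q ρ) {a : K} (hay : a * y = y * a) (v w : V) :
    polar Q (ρ a (ρ y v) - ρ y v) w = polar Q (ρ a v - v) (ρ y⁻¹ w) := by
  rw [← rho_mul, hay, rho_mul, ← map_sub, polar_rho_left h.iso]

theorem alt_y' (h : Sit p f m Q ρ) {a : K} (hay : a * y = y * a) (v w : V) :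
    polar Q (ρ a (ρ y⁻¹ v) - ρ y⁻¹ v) w = polar Q (ρ a v - v) (ρ y w) := by
  have h1 : a * y⁻¹ = y⁻¹ * a := ((show Commute a y from hay).inv_right).eq
  have h2 := alt_y h h1 v w
  rwa [inv_inv] at h2

theorem alt_tt (h : Sit p f m Q ρ) {a : K} (hay : a * y = y * a) (v w : V) :
    polar Q (ρ a (tt ρ y v) - tt ρ y v) w = polar Q (ρ a v - v) (tt ρ y w) := by
  rw [tt_apply, tt_apply, polar_add_right, ← alt_y h hay, ← alt_y' h hay, ← polar_add_left, map_add]
  congr 1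
  abel

end cent

end Cfsg.Agent.H499.Rd
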