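import Cfsg.Agent.H499.Rd.Par

/-!
# S3691, residual case F-D+2 (helper499): (B1)

`odd_of_ps` : if a nontrivial `p`-subgroup of `K` is normalised by an element of order `r` and by an element of order `s`,
then `m` is odd.
-/

set_option autoImplicit false
set_option linter.unusedSectionVars false

namespace Cfsg.Agent.H499.Rd

open Module QuadraticMap Cfsg.Agent.LieClassical.OrthCore Cfsg.Agent.LieClassical.OrthTrans Cfsg.Agent.H955
open Cfsg.Agent.H117.Rd

variable {F V K : Type*} [Field F] [Fintype F] [AddCommGroup V] [Module F V] [FiniteDimensional F V] [Group K] [Finite K]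
  {ρ : K →* (V ≃ₗ[F] V)} {Q : QuadraticForm F V} {p f m r s : ℕ} {A : Subgroup K} {y z : K}

/-- powers of `t` can be moved -/
theorem alt_pow (h : Sit p f m Q ρ) {a : K} (hay : a * y = y * a) (i : ℕ) (v w : V) :
    polar Q (ρ a ((tt ρ y ^ i) v) - (tt ρ y ^ i) v) w = polar Q (ρ a v - v) ((tt ρ y ^ i) w) := by
  induction i generalizing v w with
  | zero => rw [pow_zero]; rfl
  | succ i ih =>
    rw [pow_succ']
    change polar Q (ρ a (tt ρ y ((tt ρ y ^ i) v)) - tt ρ y ((tt ρ y ^ i) v)) w = polar Q (ρ a v - v) (tt ρ y ((tt ρ y ^ i) w))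
    rw [alt_tt h hay, ih]
    rw [← Module.End.mul_apply, ← Module.End.mul_apply, ← pow_succ, ← pow_succ']

theorem alt_t_self (h : Sit p f m Q ρ) (hp : PS m Q ρ A) {a : K} (ha : a ∈ A) (hay : a * y = y * a) (x : V) :
    polar Q (ρ a x - x) (tt ρ y x) = 0 := by
  rw [tt_apply, polar_add_right, ← alt_y h hay, alt_comm h hp ha (ρ y x) x]
  ring

theorem alt_u (h : Sit p f m Q ρ) (hp : PS m Q ρ A) {a : K} (ha : a ∈ A) (hay : a * y = y * a) (k : ℕ) (u : V) :
    polar Q (ρ a u - u) ((tt ρ y ^ k) u) = 0 := by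
  obtain ⟨j, hj | hj⟩ := Nat.even_or_odd' k
  · rw [hj, two_mul, pow_add, Module.End.mul_apply, ← alt_pow h hay]
    exact alt_self h hp ha _
  · have h1 : (tt ρ y ^ k) u = (tt ρ y ^ j) (tt ρ y ((tt ρ y ^ j) u)) := by
      rw [hj, ← Module.End.mul_apply, ← Module.End.mul_apply, ← pow_succ, ← pow_add]
      congr 2
      omega
    rw [h1, ← alt_pow h hay]
    exact alt_t_self h hp ha hay _

/-- `T = F[t] u` -/
def TT (ρ : K →* (V ≃ₗ[F] V)) (y : K) (u : V) : Submodule F V := Submodule.span F (Set.range fun i : ℕ => (tt ρ y ^ i) u)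

theorem u_mem_TT (u : V) : u ∈ TT ρ y u := Submodule.subset_span ⟨0, by simp⟩

theorem tt_mem_TT {u x : V} (hx : x ∈ TT ρ y u) : tt ρ y x ∈ TT ρ y u := by
  have h1 : TT ρ y u ≤ (TT ρ y u).comap (tt ρ y) := by
    rw [TT, Submodule.span_le]
    rintro _ ⟨i, rfl⟩
    refine Submodule.subset_span ⟨i + 1, ?_⟩
    change (tt ρ y ^ (i + 1)) u = tt ρ y ((tt ρ y ^ i) u)
    rw [pow_succ', Module.End.mul_apply]
  exact h1 hx

theorem alt_TT (h : Sit p f m Q ρ) (hp : PS m Q ρ A) {a : K} (ha : a ∈ A) (hay : a * y = y * a) {u x : V}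
    (hx : x ∈ TT ρ y u) : polar Q (ρ a u - u) x = 0 := by
  have h1 : TT ρ y u ≤ perp Q (Submodule.span F {ρ a u - u}) := by
    rw [TT, Submodule.span_le]
    rintro _ ⟨i, rfl⟩
    rw [SetLike.mem_coe, mem_perp]
    intro w hw
    obtain ⟨c, rfl⟩ := Submodule.mem_span_singleton.1 hw
    rw [polar_smul_left, alt_u h hp ha hay, smul_zero]
  exact (mem_perp.1 (h1 hx)) _ (Submodule.mem_span_singleton_self _)

/-- `W + T` is large -/
theorem finrank_WT (h : Sit p f m Q ρ) (hr : Pr p f m r m) (hp : PS m Q ρ A) (hy : orderOf y = r)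
    (hyA : y ∈ Subgroup.normalizer (A : Set K)) {u : V} (hu : u ∉ Fx ρ A) :
    3 * m ≤ 2 * finrank F (Fx ρ A ⊔ TT ρ y u : Submodule F V) := by
  have hm := h.fr.five
  set W := Fx ρ A with hW
  set X : Submodule F V := W ⊔ TT ρ y u with hX
  have hWy : ∀ x ∈ W, ρ y x ∈ W := fun x hx => Fx_inv hyA hx
  have hinv : ∀ x ∈ X ⊔ X.map (ρ y : V →ₗ[F] V), ρ y x ∈ X ⊔ X.map (ρ y : V →ₗ[F] V) := by
    intro x hx
    obtain ⟨x1, hx1, x2, hx2, rfl⟩ := Submodule.mem_sup.1 hx
    obtain ⟨x3, hx3, rfl⟩ := (Submodule.mem_map).1 hx2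
    obtain ⟨w, hw, x4, hx4, rfl⟩ := Submodule.mem_sup.1 hx3
    rw [map_add]
    refine Submodule.add_mem _ (Submodule.mem_sup_right ⟨x1, hx1, rfl⟩) ?_
    change ρ y (ρ y (w + x4)) ∈ _
    rw [map_add, map_add]
    refine Submodule.add_mem _ (Submodule.mem_sup_left (Submodule.mem_sup_left (hWy _ (hWy _ hw)))) ?_
    have h1 : ρ y (ρ y x4) = ρ y (tt ρ y x4) - x4 := by
      rw [tt_apply, map_add, ← rho_mul y y⁻¹, mul_inv_cancel, map_one]
      change _ = _ + x4 - x4
      rw [add_sub_cancel_right]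
    rw [h1]
    exact Submodule.sub_mem _ (Submodule.mem_sup_right ⟨_, Submodule.mem_sup_right (tt_mem_TT hx4), rfl⟩)
      (Submodule.mem_sup_left (Submodule.mem_sup_right hx4))
  have h1 := dvd_of_inv h hr hy hinv
  have hlt : W < X ⊔ X.map (ρ y : V →ₗ[F] V) := by
    refine lt_of_le_of_ne (le_sup_left.trans le_sup_left) ?_
    intro h2
    apply hu
    rw [h2]
    exact Submodule.mem_sup_left (Submodule.mem_sup_right (u_mem_TT u))
  have h2 := Submodule.finrank_lt_finrank_of_lt hlt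
  rw [hp.rank] at h2
  have h3 : 2 * m ≤ finrank F (X ⊔ X.map (ρ y : V →ₗ[F] V) : Submodule F V) := by
    obtain ⟨c, hc⟩ := h1
    rw [hc] at h2 ⊢
    rw [mul_comm 2 m]
    apply Nat.mul_le_mul_left
    by_contra hcon
    have : m * c ≤ m * 1 := Nat.mul_le_mul_left _ (by omega)
    omega
  have h4 := Submodule.finrank_sup_add_finrank_inf_eq X (X.map (ρ y : V →ₗ[F] V))
  have h5 : finrank F (X.map (ρ y : V →ₗ[F] V)) = finrank F X := LinearEquiv.finrank_map_eq (ρ y) X
  have h6 : W ≤ X ⊓ X.map (ρ y : V →ₗ[F] V) := by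
    refine le_inf le_sup_left ?_
    intro w hw
    refine ⟨ρ y⁻¹ w, Submodule.mem_sup_left (Fx_inv (inv_mem hyA) hw), ?_⟩
    change ρ y (ρ y⁻¹ w) = w
    rw [← rho_mul, mul_inv_cancel, map_one]
    rfl
  have h7 := Submodule.finrank_mono h6
  rw [hp.rank] at h7
  omega

/-- the centraliser of `y` in `A` is small -/
theorem card_cent_le (h : Sit p f m Q ρ) (hr : Pr p f m r m) (hp : PS m Q ρ A) (hy : orderOf y = r)
    (hyA : y ∈ Subgroup.normalizer (A : Set K)) {c : ℕ}
    (hc : Nat.card (A ⊓ Subgroup.centralizer {y} : Subgroup K) = p ^ c) : 2 * c ≤ f * m := by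
  have hm := h.fr.five
  obtain ⟨u, hu⟩ : ∃ u, u ∉ Fx ρ A := by
    by_contra hcon
    push Not at hcon
    have h1 : Fx ρ A = ⊤ := eq_top_iff.2 fun v _ => hcon v
    have h2 := hp.rank
    rw [h1, finrank_top, h.dim] at h2
    omega
  have h1 := finrank_WT h hr hp hy hyA hu
  set X : Submodule F V := Fx ρ A ⊔ TT ρ y u with hX
  have h2 := finrank_add_perp h.nondeg X
  rw [h.dim] at h2
  have hcomm : ∀ a ∈ (A ⊓ Subgroup.centralizer {y} : Subgroup K), a * y = y * a := by
    intro a ha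
    have := ha.2
    change a ∈ Subgroup.centralizer {y} at this
    rwa [Subgroup.mem_centralizer_singleton_iff] at this
  let φ : (A ⊓ Subgroup.centralizer {y} : Subgroup K) → perp Q X := fun a => ⟨ρ (a : K) u - u, by
    rw [mem_perp']
    intro x hx
    obtain ⟨w, hw, t, ht, rfl⟩ := Submodule.mem_sup.1 hx
    rw [polar_add_right, alt_TT h hp a.2.1 (hcomm _ a.2) ht, add_zero]
    have h3 : ρ (a : K) u - u ∈ perp Q (Fx ρ A) := by
      rw [hp.perp_eq]
      exact hp.triv _ a.2.1 u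
    exact (mem_perp'.1 h3) w hw⟩
  have hinj : Function.Injective φ := by
    intro a b hab
    have h3 : ρ (a : K) u = ρ (b : K) u := sub_left_injective (congrArg Subtype.val hab)
    have h4 : ρ ((b : K)⁻¹ * a) u = u := by
      rw [rho_mul, h3, ← rho_mul, inv_mul_cancel, map_one]
      rfl
    set g : K := (b : K)⁻¹ * a with hg
    have hgm : g ∈ (A ⊓ Subgroup.centralizer {y} : Subgroup K) := mul_mem (inv_mem b.2) a.2
    have hgy := hcomm g hgm
    have h5 : m ∣ finrank F (Fx ρ (Subgroup.zpowers g)) := by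
      refine dvd_of_inv h hr hy ?_
      intro v hv
      rw [mem_Fx_zpowers] at hv ⊢
      rw [← rho_mul, hgy, rho_mul, hv]
    have h6 : Fx ρ A < Fx ρ (Subgroup.zpowers g) := by
      refine lt_of_le_of_ne (fun v hv => ?_) ?_
      · rw [mem_Fx_zpowers]
        exact hv g hgm.1
      · intro h7
        apply hu
        rw [h7, mem_Fx_zpowers]
        exact h4
    have h7 := Submodule.finrank_lt_finrank_of_lt h6
    rw [hp.rank] at h7
    have h8 : finrank F (Fx ρ (Subgroup.zpowers g)) = finrank F V := by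
      refine le_antisymm (Submodule.finrank_le _) ?_
      rw [h.dim]
      obtain ⟨k, hk⟩ := h5
      rw [hk] at h7 ⊢
      rw [mul_comm 2 m]
      apply Nat.mul_le_mul_left
      by_contra hcon
      have : m * k ≤ m * 1 := Nat.mul_le_mul_left _ (by omega)
      omega
    have h9 : Fx ρ (Subgroup.zpowers g) = ⊤ := Submodule.eq_top_of_finrank_eq h8
    have h10 : g = 1 := by
      apply h.inj
      rw [map_one]
      ext v
      have : v ∈ Fx ρ (Subgroup.zpowers g) := by rw [h9]; trivial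
      rw [mem_Fx_zpowers] at this
      exact this
    apply Subtype.ext
    rw [hg] at h10
    exact (inv_mul_eq_one.1 h10).symm
  have hfin : Finite (perp Q X) := fin_sub _
  have h3 := Nat.card_le_card_of_injective φ hinj
  rw [hc, Module.natCard_eq_pow_finrank (K := F), Nat.card_eq_fintype_card, h.card, ← pow_mul] at h3
  have h4 := (Nat.pow_le_pow_iff_right h.fr.prime.one_lt).1 h3
  have h5 : 2 * finrank F (perp Q X) ≤ m := by omega
  calc 2 * c ≤ 2 * (f * finrank F (perp Q X)) := Nat.mul_le_mul_left _ h4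
    _ = f * (2 * finrank F (perp Q X)) := by ring
    _ ≤ f * m := Nat.mul_le_mul_left _ h5

/-- **(B1)** -/
theorem odd_of_ps (h : Sit p f m Q ρ) (hr : Pr p f m r m) (hs : Pr p f m s (m - 1)) (hA : IsPGroup p A) (hA1 : A ≠ ⊥)
    (hy : orderOf y = r) (hyA : y ∈ Subgroup.normalizer (A : Set K)) (hz : orderOf z = s)
    (hzA : z ∈ Subgroup.normalizer (A : Set K)) : Odd m := by
  by_contra hodd
  rw [Nat.not_odd_iff_even] at hodd
  have hm := h.fr.five
  have hf := h.fr.f1
  have hp := ps h hr hA hA1 hy hyA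
  have hodd' : Odd (m - 1) := by
    obtain ⟨j, hj⟩ := hodd
    exact ⟨j - 1, by omega⟩
  obtain ⟨a, c, ha, hc, hca, ⟨k, hk⟩, hle⟩ := exp_mod h hs hA hz hzA
  obtain ⟨a', c', ha', hc', hca', ⟨k', hk'⟩, -⟩ := exp_mod h hr hA hy hyA
  have haa : a' = a := Nat.pow_right_injective h.fr.prime.two_le (ha'.symm.trans ha)
  subst haa
  rw [cent_eq_bot h hs hodd' hA hz, Subgroup.card_bot] at hc
  have hc0 : c = 0 := by
    by_contra h0
    have := Nat.one_lt_pow h0 h.fr.prime.one_lt
    omega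
  subst hc0
  rw [Nat.sub_zero] at hk
  have h2 := card_cent_le h hr hp hy hyA hc'
  have hk1 : 1 ≤ k := by
    rcases Nat.eq_zero_or_pos k with h0 | h0
    · rw [h0, mul_zero] at hk
      rw [hk, pow_zero] at ha
      exact absurd (Subgroup.card_eq_one.1 ha) hA1
    · exact h0
  have h3 : f * (2 * m - 2) = 2 * (f * (m - 1)) := by
    have : 2 * m - 2 = 2 * (m - 1) := by omega
    rw [this]
    ring
  have h4 : f * m = f * (m - 1) + f := by
    conv_lhs => rw [show m = (m - 1) + 1 by omega]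
    ring
  have h5 : 4 * f ≤ f * (m - 1) := by
    rw [mul_comm 4 f]
    exact Nat.mul_le_mul_left _ (by omega)
  have hk2 : k ≤ 2 := by
    by_contra hcon
    have : f * (m - 1) * 3 ≤ f * (m - 1) * k := Nat.mul_le_mul_left _ (by omega)
    omega
  have hk3 : k' ≤ 1 := by
    by_contra hcon
    have : f * m * 2 ≤ f * m * k' := Nat.mul_le_mul_left _ (by omega)
    omega
  rcases (show k = 1 ∨ k = 2 by omega) with rfl | rfl <;> rcases (show k' = 0 ∨ k' = 1 by omega) with rfl | rfl <;> omega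

end Cfsg.Agent.H499.Rd
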